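import Groth.Agent.LeadFF.BaseChange
import Groth.Agent.H11Ample.Pullback
import Groth.Agent.H11Ample.RelComp
import Groth.Agent.H11Tilde.ProjUP
import Mathlib.LinearAlgebra.FreeModule.Basic

/-!
# Generation by global sections descends along an extension of the ground field
-/

set_option autoImplicit false
set_option linter.style.haveILetI false
set_option linter.unusedSectionVars false
set_option maxHeartbeats 1000000
universe u

open CategoryTheory CategoryTheory.Limits AlgebraicGeometry TopologicalSpace Opposite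
open Groth.Agent Groth.Agent.H11Ample Groth.Agent.H11Tilde

noncomputable section

namespace Groth.Agent.H25Bdd

variable {k K : Type u} [Field k] [Field K] [Algebra k K] {X X' : Scheme.{u}} {g : X ⟶ Spec (CommRingCat.of k)}
  {g' : X' ⟶ Spec (CommRingCat.of K)} {q : X' ⟶ X}
  (hsq : IsPullback q g' g (Spec.map (CommRingCat.ofHom (algebraMap k K))))
  {M : X.Modules}

include hsq in
/-- A point where every section over the small field vanishes is one where every section over the large field does. -/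
theorem exists_mem_gen_of_pullback (hM : PicF.IsInvertible M)
    (hq : Coh.IsQCoh M) (t : Γ((Scheme.Modules.pullback q).obj M, ⊤)) {x' : X'}
    (hx' : x' ∈ gen ((Scheme.Modules.pullback q).obj M) t) : ∃ m : Γ(M, ⊤), q x' ∈ gen M m := by
  classical
  by_contra! hall
  let P := (Scheme.Modules.pullback q).obj M
  let b := Module.Free.chooseBasis k K
  let J := Module.Free.ChooseBasisIndex k K
  let ℓ : J → K → k := fun j c => b.repr c j
  have hℓ : ∀ j x y, ℓ j (x + y) = ℓ j x + ℓ j y := fun j x y => by simp [ℓ]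
  have hℓa : ∀ j a x, ℓ j (algebraMap k K a * x) = a * ℓ j x := fun j a x => by
    simp [ℓ, ← Algebra.smul_def]
  let AO := {U : X.Opens // IsAffineOpen U}
  choose L hL using fun (j : J) (U : AO) => (LeadFF.exists_sections hsq M hq U.2).2 (ℓ j) (hℓ j) (hℓa j)
  have hres : ∀ (j : J) (U W : AO) (h : W.1 ≤ U.1) (z : Γ(P, q ⁻¹ᵁ U.1)),
      M.presheaf.map (homOfLE h).op (L j U z) = L j W (P.presheaf.map (homOfLE (q.preimage_mono h)).op z) := by
    intro j U W h
    refine (LeadFF.exists_sections hsq M hq U.2).1 _ ?_ ?_ ?_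
    · rw [map_zero, map_zero, map_zero, map_zero]
    · intro x y hx hy
      rw [map_add, map_add, map_add, map_add, hx, hy]
    · intro s m
      rw [hL, Scheme.Modules.map_smul, Scheme.Modules.map_smul, LeadFF.map_scal, LeadFF.map_scal,
        ← H11Tilde.pullSect_res q M h m]
      exact (hL j W s _).symm
  let z : ∀ U : AO, Γ(P, q ⁻¹ᵁ U.1) := fun U => P.presheaf.map (homOfLE le_top).op t
  have hcov : (⊤ : X.Opens) ≤ ⨆ U : AO, U.1 := fun y _ => by
    obtain ⟨V, hV, hy, -⟩ := exists_isAffineOpen_mem_and_subset (U := (⊤ : X.Opens)) (x := y) trivial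
    exact Opens.mem_iSup.2 ⟨⟨V, hV⟩, hy⟩
  have hglue : ∀ j, ∃ m : Γ(M, ⊤), ∀ U : AO, M.presheaf.map (homOfLE le_top).op m = L j U (z U) := by
    intro j
    have hc : TopCat.Presheaf.IsCompatible (H10Coh.sheafOf M).1 (fun U : AO => U.1) (fun U => L j U (z U)) := by
      intro U V
      refine TopCat.Sheaf.eq_of_locally_eq' (H10Coh.sheafOf M)
        (fun W : {W : X.Opens // IsAffineOpen W ∧ W ≤ U.1 ⊓ V.1} => W.1) (U.1 ⊓ V.1)
        (fun W => homOfLE W.2.2) ?_ _ _ fun W => ?_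
      · intro y hy
        obtain ⟨W, hW, hyW, hle⟩ := exists_isAffineOpen_mem_and_subset (U := U.1 ⊓ V.1) hy
        exact Opens.mem_iSup.2 ⟨⟨W, hW, hle⟩, hyW⟩
      · show M.presheaf.map _ (M.presheaf.map _ (L j U (z U))) = M.presheaf.map _ (M.presheaf.map _ (L j V (z V)))
        erw [H10Coh.mres_mres, H10Coh.mres_mres]
        rw [hres j U ⟨W.1, W.2.1⟩ (W.2.2.trans inf_le_left), hres j V ⟨W.1, W.2.1⟩ (W.2.2.trans inf_le_right)]
        simp only [z, H10Coh.mres_mres]
    obtain ⟨m, hm, -⟩ := TopCat.Sheaf.existsUnique_gluing' (H10Coh.sheafOf M) (fun U : AO => U.1) ⊤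
      (fun U => homOfLE le_top) hcov _ hc
    exact ⟨m, hm⟩
  choose m hm using hglue
  obtain ⟨U₀, e₀, hxU₀, he₀⟩ := exists_gen hM (q x')
  obtain ⟨U, hU, hxU, hle⟩ := exists_isAffineOpen_mem_and_subset (U := U₀) hxU₀
  have he := he₀.res hle
  set e := M.presheaf.map (homOfLE hle).op e₀
  have hbad : ∀ a : Γ(X, U), (∃ j, M.presheaf.map (homOfLE (le_top : U ≤ ⊤)).op (m j) = a • e) →
      q x' ∉ X.basicOpen a := fun a ⟨j, ha⟩ h => hall (m j) ((mem_gen_iff_mem_basicOpen he ha hxU).2 h)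
  have key : ∀ w : Γ(P, q ⁻¹ᵁ U), (∀ j, ∃ a : Γ(X, U), L j ⟨U, hU⟩ w = a • e ∧ q x' ∉ X.basicOpen a) →
      ∃ c : Γ(X', q ⁻¹ᵁ U), w = c • OmegaSh.pullSect q M U e ∧ x' ∉ X'.basicOpen c := by
    intro w hw
    have hsum : ∃ S : Finset J, w = ∑ j ∈ S,
        LeadFF.scal g' (q ⁻¹ᵁ U) (b j) • OmegaSh.pullSect q M U (L j ⟨U, hU⟩ w) := by
      suffices h : ∃ S : Finset J, ∀ T : Finset J, S ⊆ T → w = ∑ j ∈ T,
          LeadFF.scal g' (q ⁻¹ᵁ U) (b j) • OmegaSh.pullSect q M U (L j ⟨U, hU⟩ w) from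
        let ⟨S, hS⟩ := h; ⟨S, hS S subset_rfl⟩
      refine (LeadFF.exists_sections hsq M hq hU).1 (fun w => ∃ S : Finset J, ∀ T : Finset J, S ⊆ T → w = ∑ j ∈ T,
        LeadFF.scal g' (q ⁻¹ᵁ U) (b j) • OmegaSh.pullSect q M U (L j ⟨U, hU⟩ w)) ⟨∅, fun T _ => ?_⟩ ?_ ?_ w
      · simp
      · rintro x y ⟨S, hS⟩ ⟨S', hS'⟩
        refine ⟨S ∪ S', fun T hT => ?_⟩
        simp only [map_add, smul_add, Finset.sum_add_distrib]
        rw [← hS T (Finset.union_subset_left hT), ← hS' T (Finset.union_subset_right hT)]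
      · intro s m
        refine ⟨(b.repr s).support, fun T hT => ?_⟩
        simp only [hL, OmegaSh.pullSect_smul, smul_smul, LeadFF.app_scal hsq]
        rw [← Finset.sum_smul]
        congr 1
        conv_lhs => rw [← b.linearCombination_repr s, Finsupp.linearCombination_apply,
          Finsupp.sum_of_support_subset (b.repr s) hT (fun i a => a • b i) (fun _ _ => zero_smul _ _), map_sum]
        exact Finset.sum_congr rfl fun j _ => by rw [Algebra.smul_def, map_mul, _root_.mul_comm]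
    obtain ⟨S, hS⟩ := hsum
    choose a ha hax using hw
    refine ⟨∑ j ∈ S, LeadFF.scal g' (q ⁻¹ᵁ U) (b j) * q.app U (a j), ?_, ?_⟩
    · rw [Finset.sum_smul]
      refine hS.trans (Finset.sum_congr rfl fun j _ => ?_)
      rw [ha j, OmegaSh.pullSect_smul, smul_smul]
    · rw [Scheme.mem_basicOpen _ _ _ (show x' ∈ q ⁻¹ᵁ U from hxU), map_sum]
      refine fun hu => (IsLocalRing.mem_maximalIdeal _).1 (Ideal.sum_mem _ fun j _ => ?_) hu
      rw [map_mul]
      refine Ideal.mul_mem_left _ _ ((IsLocalRing.mem_maximalIdeal _).2 fun hu' => hax j ?_)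
      rw [← Scheme.mem_basicOpen _ _ _ (show x' ∈ q ⁻¹ᵁ U from hxU), ← Scheme.preimage_basicOpen] at hu'
      exact hu'
  obtain ⟨c, hc, hcx⟩ := key (z ⟨U, hU⟩) fun j => by
    obtain ⟨a, ha⟩ := exists_coeff he (M.presheaf.map (homOfLE (le_top : U ≤ ⊤)).op (m j))
    exact ⟨a, (hm j ⟨U, hU⟩).symm.trans ha, hbad a ⟨j, ha⟩⟩
  exact hcx ((mem_gen_iff_mem_basicOpen (IsGen.pullSect q he) hc hxU).1 hx')

end Groth.Agent.H25Bdd
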