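import Groth.Agent.H25Bdd.BaseGen
import Groth.Agent.H25AbCube.StabAmple
import Groth.Agent.H25Index.Ample
import Groth.Agent.H25Index.BaseChange
import Groth.Agent.H10Coh.Pn.Results

/-!
# The square of an ample invertible module on an abelian variety is generated by global sections
-/

set_option autoImplicit false
set_option linter.style.haveILetI false
set_option linter.unusedSectionVars false
set_option backward.isDefEq.respectTransparency false
set_option synthInstance.maxHeartbeats 400000
set_option maxHeartbeats 1000000
universe u

open CategoryTheory CategoryTheory.Limits MonoidalCategory CartesianMonoidalCategory MonObj AlgebraicGeometry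
  TopologicalSpace
open Groth.Agent Groth.Agent.H11Ample Groth.Agent.H25AbCube Groth.Agent.H25Index Groth.Agent.H25AbCube.GeomTate

noncomputable section

attribute [local instance] Functor.grpObjObj

namespace Groth.Agent.H25Bdd

variable {k : Type u} [Field k] {B : Over (Spec (CommRingCat.of k))} [GrpObj B] [IsProper B.hom]
  [GeometricallyIntegral B.hom]

/-- Over an algebraically closed field the square of an ample module is generated by global sections. -/
theorem exists_gen_sq_closed [IsAlgClosed k] {L : B.left.Modules} (hL : CohB1.IsAmple L) (x : B.left) :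
    ∃ t : Γ(CohB1.tensorMod L L, ⊤), x ∈ gen (CohB1.tensorMod L L) t := by
  haveI : IsIntegral B.left := GeometricallyIntegral.isIntegral_of_subsingleton B.hom
  haveI : IsLocallyNoetherian B.left := LocallyOfFiniteType.isLocallyNoetherian B.hom
  haveI := (H25Index.ample_vanishing L hL).2
  haveI : Nontrivial Γ(L, ⊤) := (H10Coh.HH0Equiv L).symm.toEquiv.nontrivial
  obtain ⟨s, hs⟩ := exists_ne (0 : Γ(L, ⊤))
  exact Stab.exists_gen_tensor_self hL.1 s ⟨_, H25Euler.mem_gen_of_notMem_support_coker hL.1 s (H29RR.mono_homOfGlobal hL.1 hs).2⟩ x

/-- The square of an ample module is generated by global sections. -/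
theorem exists_gen_sq {L : B.left.Modules} (hL : CohB1.IsAmple L) (x : B.left) :
    ∃ t : Γ(CohB1.tensorMod L L, ⊤), x ∈ gen (CohB1.tensorMod L L) t := by
  haveI : Surjective (gp B) := MorphismProperty.pullback_fst (P := @Surjective) _ _ (surjective_σ k (Kbar k))
  haveI : IsAffineHom (σ k (Kbar k)) := isAffineHom_of_isAffine _
  haveI : IsAffineHom (gp B) := MorphismProperty.pullback_fst (P := @IsAffineHom) _ _ inferInstance
  obtain ⟨x', rfl⟩ := (gp B).surjective x
  haveI : GeometricallyIntegral (gX B).hom :=
    MorphismProperty.pullback_snd (P := @GeometricallyIntegral) _ _ ‹GeometricallyIntegral B.hom›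
  haveI : IsProper (gX B).hom := MorphismProperty.pullback_snd (P := @IsProper) _ _ ‹IsProper B.hom›
  obtain ⟨t, ht⟩ := exists_gen_sq_closed (B := gX B) (isAmple_pullback_of_isAffineHom (gp B) hL) x'
  have hM := isInvertible_tensor hL.1 hL.1
  let e : gM (CohB1.tensorMod L L) ≅ CohB1.tensorMod (gM L) (gM L) := H25Theta.pT (gp B) L L
  rw [← gen_iso e.inv t] at ht
  exact exists_mem_gen_of_pullback (IsPullback.of_hasPullback B.hom (σ k (Kbar k))) hM (isCoh_of_isInvertible hM).1 _ ht

end Groth.Agent.H25Bdd
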