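import Groth.Agent.H11Ample.ToPn
import Groth.Agent.H11Proj.ProjSpace
import Mathlib.AlgebraicGeometry.Morphisms.ClosedImmersion

/-!
# The first chart of projective space, and morphisms given by sections
-/

set_option autoImplicit false
set_option linter.style.haveILetI false
set_option linter.unusedSectionVars false
set_option backward.isDefEq.respectTransparency.types false
set_option maxHeartbeats 1000000
universe u

open CategoryTheory CategoryTheory.Limits AlgebraicGeometry Opposite TopologicalSpace CohB1 MvPolynomial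
open Groth.Agent Groth.Agent.H11Tilde Groth.Agent.H11Ample

noncomputable section

namespace Groth.Agent.H25Bdd

variable {n : ℕ} {k : Type u} [CommRing k]

/-- The chart where the first coordinate generates. -/
abbrev D₀ (n : ℕ) (k : Type u) [CommRing k] : (ProjSpace n k).Opens :=
  Proj.basicOpen (polyGrading n k) (X 0 : MvPolynomial (Fin (n + 1)) k)

/-- The coordinate functions on the first chart. -/
def chart₀ (n : ℕ) (k : Type u) [CommRing k] : MvPolynomial (Fin n) k →+* Γ(ProjSpace n k, D₀ n k) :=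
  (Proj.awayToSection (polyGrading n k) (X 0)).hom.comp
    ((H11Proj.ProjSpace.chartMap n k 0).comp (rename (finSuccAboveEquiv (0 : Fin (n + 1)))).toRingHom)

theorem chart₀_surjective : Function.Surjective (chart₀ n k) := by
  haveI : IsIso (Proj.awayToSection (polyGrading n k) (X 0 : MvPolynomial (Fin (n + 1)) k)) :=
    (Proj.basicOpenIsoAway (polyGrading n k) (X 0 : MvPolynomial (Fin (n + 1)) k)
      (H11Ample.X_mem 0) one_pos).isIso_hom
  have h1 : Function.Surjective (Proj.awayToSection (polyGrading n k) (X 0 : MvPolynomial (Fin (n + 1)) k)).hom :=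
    (ConcreteCategory.bijective_of_isIso
      (Proj.awayToSection (polyGrading n k) (X 0 : MvPolynomial (Fin (n + 1)) k))).surjective
  have h2 : Function.Surjective (rename (R := k) (finSuccAboveEquiv (0 : Fin (n + 1)))).toRingHom :=
    rename_surjective _ (finSuccAboveEquiv (0 : Fin (n + 1))).surjective
  exact h1.comp ((H11Proj.ProjSpace.chartMap_bijective n k 0).surjective.comp h2)

theorem chart₀_X (j : Fin n) :
    chart₀ n k (X j) = ratio (polyGrading n k) (H11Ample.X_mem (0 : Fin (n + 1))) (H11Ample.X_mem j.succ) := by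
  have hj : ((finSuccAboveEquiv (0 : Fin (n + 1))) j).1 = j.succ := by simp [finSuccAboveEquiv_apply]
  have e : chart₀ n k (X j) = Proj.awayToSection (polyGrading n k) (X 0)
      (H11Proj.ProjSpace.chartMap n k 0 (rename (finSuccAboveEquiv (0 : Fin (n + 1))) (X j))) := rfl
  rw [e, rename_X]
  unfold H11Proj.ProjSpace.chartMap
  rw [eval₂Hom_X']
  unfold ratio
  refine congrArg _ (HomogeneousLocalization.val_injective _ ?_)
  rw [HomogeneousLocalization.Away.val_mk, HomogeneousLocalization.val_mk]
  simp only [hj]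
  congr 1
  exact Subtype.ext (pow_one _).symm

theorem chart₀_C (c : k) :
    chart₀ n k (C c) = (ProjSpace n k).presheaf.map (homOfLE (le_top : D₀ n k ≤ ⊤)).op
      (Coh.toGlobal (ProjSpace.toSpec n k) c) := by
  have e : (D₀ n k).ι ≫ ProjSpace.toSpec n k =
      Proj.basicOpenToSpec (polyGrading n k) (X 0 : MvPolynomial (Fin (n + 1)) k) ≫
        Spec.map (CommRingCat.ofHom ((H11Proj.ProjSpace.chartMap n k 0).comp C)) := by
    rw [← H11Proj.ProjSpace.awayι_toSpec, Proj.awayι, Category.assoc,
      ← Proj.basicOpenIsoSpec_hom (polyGrading n k) (X 0 : MvPolynomial (Fin (n + 1)) k) (H11Ample.X_mem 0) one_pos]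
    erw [Iso.hom_inv_id_assoc]
    rfl
  let x := (Scheme.ΓSpecIso (CommRingCat.of k)).inv c
  have h : (D₀ n k).ι.appTop ((ProjSpace.toSpec n k).appTop x) =
      (Proj.basicOpenToSpec (polyGrading n k) (X 0 : MvPolynomial (Fin (n + 1)) k)).appTop
        ((Spec.map (CommRingCat.ofHom ((H11Proj.ProjSpace.chartMap n k 0).comp C))).appTop x) :=
    congrArg (fun f => f.appTop x) e
  have h1 : (Spec.map (CommRingCat.ofHom ((H11Proj.ProjSpace.chartMap n k 0).comp C))).appTop x =
      (Scheme.ΓSpecIso _).inv (H11Proj.ProjSpace.chartMap n k 0 (C c)) :=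
    (ConcreteCategory.congr_hom (Scheme.ΓSpecIso_inv_naturality
      (CommRingCat.ofHom ((H11Proj.ProjSpace.chartMap n k 0).comp C))) c).symm
  have h2 : ∀ z, (Proj.basicOpenToSpec (polyGrading n k) (X 0 : MvPolynomial (Fin (n + 1)) k)).appTop
      ((Scheme.ΓSpecIso (CommRingCat.of (HomogeneousLocalization.Away (polyGrading n k) (X 0)))).inv z) =
      (D₀ n k).topIso.inv (Proj.awayToSection (polyGrading n k) (X 0) z) := fun z => by
    have h3 : (Proj.basicOpenToSpec (polyGrading n k) (X 0 : MvPolynomial (Fin (n + 1)) k)).appTop =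
      (Scheme.ΓSpecIso _).hom ≫ Proj.awayToSection (polyGrading n k) (X 0) ≫ (D₀ n k).topIso.inv :=
      Proj.basicOpenToSpec_app_top _ _
    refine (ConcreteCategory.congr_hom h3 _).trans ?_
    exact congrArg (fun w => (D₀ n k).topIso.inv (Proj.awayToSection (polyGrading n k) (X 0) w))
      ((Scheme.ΓSpecIso (CommRingCat.of (HomogeneousLocalization.Away (polyGrading n k) (X 0)))).inv_hom_id_apply z)
  have h4 := h.trans ((congrArg _ h1).trans (h2 _))
  rw [Scheme.Opens.ι_appTop] at h4
  apply (ConcreteCategory.bijective_of_isIso (D₀ n k).topIso.inv).1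
  have hC : chart₀ n k (C c) =
      Proj.awayToSection (polyGrading n k) (X 0) (H11Proj.ProjSpace.chartMap n k 0 (C c)) := by
    show Proj.awayToSection (polyGrading n k) (X 0)
      (H11Proj.ProjSpace.chartMap n k 0 (rename (finSuccAboveEquiv (0 : Fin (n + 1))) (C c))) = _
    rw [rename_C]
  rw [hC]
  refine h4.symm.trans ?_
  rw [Scheme.Opens.topIso_inv]
  exact ConcreteCategory.congr_hom ((ProjSpace n k).presheaf.map_comp (homOfLE (le_top : D₀ n k ≤ ⊤)).op
    (eqToHom (D₀ n k).ι_image_top).op) _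

variable {X : Scheme.{u}} {L : X.Modules}

/-- A morphism to projective space given by sections, with the explicit ratios. -/
theorem exists_toPn_ratio (q : X ⟶ Spec (CommRingCat.of k)) (hL : PicF.IsInvertible L)
    (v : Fin (n + 1) → Γ(L, ⊤)) (hv : ∀ x, ∃ i, x ∈ gen L (v i)) :
    ∃ (r : X ⟶ ProjSpace n k), r ≫ ProjSpace.toSpec n k = q ∧
      (∀ i, r ⁻¹ᵁ Proj.basicOpen (polyGrading n k) (MvPolynomial.X i) = gen L (v i)) ∧
      ∀ i l, L.presheaf.map (homOfLE (le_top : r ⁻¹ᵁ Proj.basicOpen (polyGrading n k) (MvPolynomial.X i) ≤ ⊤)).op (v l) =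
          r.app _ (ratio (polyGrading n k) (H11Ample.X_mem i) (H11Ample.X_mem l)) • L.presheaf.map
            (homOfLE (le_top : r ⁻¹ᵁ Proj.basicOpen (polyGrading n k) (MvPolynomial.X i) ≤ ⊤)).op (v i) := by
  classical
  let b := Pi.basisFun k (Fin (n + 1))
  let j : (Fin (n + 1) → k) →ₗ[k] MvPolynomial (Fin (n + 1)) k := b.constr k MvPolynomial.X
  have hjX : ∀ i, j (b i) = MvPolynomial.X i := fun i => b.constr_basis k _ i
  have hj : ∀ m, j m ∈ polyGrading n k 1 := fun m => by
    rw [← b.sum_repr m, map_sum]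
    refine Submodule.sum_mem _ fun i _ => ?_
    rw [map_smul, hjX]
    exact Submodule.smul_mem _ _ (H11Ample.X_mem i)
  have hsym := SymmetricAlgebra.IsSymmetricAlgebra.mvPolynomial (R := k) (Fin (n + 1)) b
  let w : (Fin (n + 1) → k) →+ Γ(L, ⊤) :=
    { toFun := fun m => ∑ i, ProjUP.toGlobal q (m i) • v i
      map_zero' := by simp
      map_add' := fun a c => by simp [add_smul, Finset.sum_add_distrib] }
  have hwb : ∀ i, w (b i) = v i := fun i => by
    change ∑ j, ProjUP.toGlobal q ((b i) j) • v j = v i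
    simp [b, Pi.single_apply, apply_ite, ite_smul]
  have hwgen : ProjUP.GeneratedBy L w := fun x => by
    obtain ⟨i, hi⟩ := hv x
    refine eq_top_iff.2 fun m _ => ?_
    obtain ⟨c, hc⟩ := ((mem_gen_iff hL (v i) x).1 hi).2 m
    rw [← hc]
    exact Submodule.smul_mem _ c (Submodule.subset_span ⟨b i, congrArg (L.presheaf.germ ⊤ x trivial).hom (hwb i)⟩)
  obtain ⟨r, hr, τ₀, hτ⟩ := exists_toProj (polyGrading n k) hj hsym q L hL w (fun a m => by
    change ∑ i, ProjUP.toGlobal q ((a • m) i) • v i = ProjUP.toGlobal q a • ∑ i, ProjUP.toGlobal q (m i) • v i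
    rw [Finset.smul_sum]
    exact Finset.sum_congr rfl fun i _ => by rw [Pi.smul_apply, smul_eq_mul, map_mul, mul_smul]) hwgen
  let τ : (Scheme.Modules.pullback r).obj (Twist.twistProjSpace n k 1) ≅ L := τ₀
  have hτ' : ∀ i, τ.hom.app ⊤ (pullTop r (L := Twist.twistProjSpace n k 1) (ProjUP.coord n k i)) = v i := fun i => by
    rw [← hwb i, ← hτ (b i), PnPoints.globalSec_congr (polyGrading n k) (hj (b i)) (H11Ample.X_mem i) (hjX i)]
    rfl
  refine ⟨r, hr, fun i => ?_, fun i l => ?_⟩
  · rw [← gen_coord, ← hτ' i, gen_iso]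
    have := gen_smul_pullSect r (isInvertible_twist (n := n) (R := k)) (ProjUP.coord n k i)
      (isUnit_one (M := Γ(X, ⊤)))
    rw [one_smul] at this
    exact this.symm
  · let D := Proj.basicOpen (polyGrading n k) (MvPolynomial.X i : MvPolynomial (Fin (n + 1)) k)
    rw [← hτ' i, ← hτ' l, ← app_map_apply, ← app_map_apply]
    have e : ∀ m, ((Scheme.Modules.pullback r).obj (Twist.twistProjSpace n k 1)).presheaf.map
        (homOfLE (le_top : r ⁻¹ᵁ D ≤ ⊤)).op (pullTop r (L := Twist.twistProjSpace n k 1) (ProjUP.coord n k m)) =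
          OmegaSh.pullSect r (Twist.twistProjSpace n k 1) D
            ((Twist.twistProjSpace n k 1).presheaf.map (homOfLE (le_top : D ≤ ⊤)).op (ProjUP.coord n k m)) :=
      fun m => (pullSect_res r (Twist.twistProjSpace n k 1) (le_top : D ≤ ⊤) (ProjUP.coord n k m)).symm
    refine Eq.trans (congrArg (τ.hom.app _) ((e l).trans ?_)) (Scheme.Modules.Hom.app_smul _ _ _)
    refine Eq.trans ?_ (congrArg _ (e i).symm)
    refine Eq.trans (congrArg (OmegaSh.pullSect r (Twist.twistProjSpace n k 1) D)
      (globalSec_eq_ratio_smul (polyGrading n k) (H11Ample.X_mem i) (H11Ample.X_mem l))) ?_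
    exact OmegaSh.pullSect_smul r (Twist.twistProjSpace n k 1) D _ _

end Groth.Agent.H25Bdd
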