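import Groth.Agent.H25Bdd.Spanning
import Groth.Agent.H25Dual.DegLam
import Groth.Agent.H25Dual.BaseChange
import Groth.Agent.H25Dual.Bilinear
import Groth.Agent.H25Poinc.Exists
import Groth.Agent.H06FpqcAmple.Main
import Groth.Agent.H13Flat.Scheme
import Groth.Agent.H19Grp.ImageGroup
import Groth.Agent.H19Grp.AffineQuotient
import Groth.Agent.H06Red.Scheme
import Groth.Agent.S4623

/-!
# An ample module over the base field with bounded invariants from a polarization
-/

set_option autoImplicit false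
set_option linter.style.haveILetI false
set_option linter.unusedSectionVars false
set_option backward.isDefEq.respectTransparency false
set_option backward.isDefEq.respectTransparency.types false
set_option synthInstance.maxHeartbeats 400000
set_option maxHeartbeats 1600000
universe u

open CategoryTheory CategoryTheory.Limits MonoidalCategory CartesianMonoidalCategory MonObj AlgebraicGeometry
  TopologicalSpace
open Groth.Agent Groth.Agent.H11Ample Groth.Agent.H11Tilde Groth.Agent.H22Alg Groth.Agent.H25Pic0 Groth.Agent.H25AbCube Groth.Agent.H25Index Groth.Agent.H25Dual Groth.Agent.H25AbCube.GeomTate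
open Groth.Agent.H12Pic.PicCurve.BaseChangePic (down toS)

noncomputable section

attribute [local instance] Functor.grpObjObj
attribute [local instance] Groth.Agent.H25AbCube.overOf

namespace Groth.Agent.H25Bdd

variable {k : Type u} [Field k]

/-- A group covered by an abelian variety through a finite flat surjection is an abelian variety. -/
theorem target_facts [Finite k] {B Bt : Over (Spec (CommRingCat.of k))} [GrpObj Bt] [IsProper B.hom]
    [GeometricallyIntegral B.hom] (lam : B ⟶ Bt) [IsFinite lam.left] [Flat lam.left]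
    [LocallyOfFinitePresentation lam.left] [Surjective lam.left] :
    IsProper Bt.hom ∧ GeometricallyIntegral Bt.hom := by
  haveI : IsProper (lam.left ≫ Bt.hom) := by rw [Over.w]; infer_instance
  haveI : IsSeparated Bt.hom := H19Grp.AffineQuotient.isSeparated_of_grp Bt
  haveI : UniversallyClosed Bt.hom := UniversallyClosed.of_comp_surjective lam.left Bt.hom
  haveI : LocallyOfFiniteType Bt.hom := H13Flat.lft_of_flat_surjective lam.left Bt.hom
  haveI hp : IsProper Bt.hom := ⟨⟩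
  haveI : GeometricallyIrreducible B.hom := inferInstance
  haveI hi : GeometricallyIrreducible Bt.hom := Groth.Agent.S4623.result B.hom Bt.hom lam.left (Over.w lam)
  haveI : GeometricallyReduced (lam.left ≫ Bt.hom) := by rw [Over.w]; infer_instance
  haveI : IsIntegral B.left := GeometricallyIntegral.isIntegral_of_subsingleton B.hom
  haveI : IsReduced Bt.left := by
    haveI : ∀ y : Bt.left, _root_.IsReduced (Bt.left.presheaf.stalk y) := fun y => by
      obtain ⟨x, rfl⟩ := lam.left.surjective y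
      algebraize [(lam.left.stalkMap x).hom]
      have : Module.FaithfullyFlat (Bt.left.presheaf.stalk (lam.left x)) (B.left.presheaf.stalk x) :=
        @Module.FaithfullyFlat.of_flat_of_isLocalHom _ _ _ _ _ _ _
          (Flat.stalkMap lam.left x) (lam.left.toLRSHom.prop x)
      exact isReduced_of_injective (lam.left.stalkMap x).hom (‹RingHom.FaithfullyFlat _›).injective
    exact isReduced_of_isReduced_stalk Bt.left
  haveI hr : GeometricallyReduced Bt.hom := H19Grp.geometricallyReduced_of_surjective lam.left Bt.hom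
  exact ⟨hp, GeometricallyIntegral.of_geometricallyReduced_of_geometricallyIrreducible Bt.hom⟩

section classes

variable {A : Over (Spec (CommRingCat.of k))} [GrpObj A] [IsProper A.hom] [GeometricallyIntegral A.hom]

theorem theta_add (a b : PC A.left) : theta (a + b) = theta a + theta b := by
  have h : ∀ f : A ⊗ A ⟶ A, ev (a + b) f = ev a f + ev b f := fun f => map_add _ _ _
  simp only [theta, h]
  abel

theorem theta_inv (a : PC A.left) : theta (ev a ((𝟙 A)⁻¹)) = theta a := by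
  haveI : IsCommMonObj A := isCommMonObj_of_av
  obtain ⟨h1, h2⟩ := bilinear (theta a) (fun b => theta_one_left a b)
    (fun x => by rw [ev_theta, _root_.mul_one, show ev a (1 : _ ⟶ A) = 0 from ev_one a]; abel) (T := A ⊗ A)
  have hz : ∀ y : A ⊗ A ⟶ A, ev (theta a) (lift (1 : A ⊗ A ⟶ A) y) = 0 := theta_one_left a
  have hz' : ∀ x : A ⊗ A ⟶ A, ev (theta a) (lift x (1 : A ⊗ A ⟶ A)) = 0 := fun x => by
    rw [ev_theta, _root_.mul_one, show ev a (1 : _ ⟶ A) = 0 from ev_one a]; abel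
  have e1 : ev (theta a) (lift (fst A A)⁻¹ (snd A A)⁻¹) = ev (theta a) (lift (fst A A) (snd A A)) := by
    have p1 := h1 (fst A A) (fst A A)⁻¹ (snd A A)⁻¹
    have p2 := h2 (fst A A) (snd A A) (snd A A)⁻¹
    rw [mul_inv_cancel, hz] at p1
    rw [mul_inv_cancel, hz'] at p2
    linear_combination (norm := abel) p2 - p1
  have hi : ∀ p : A ⊗ A ⟶ A, p ≫ (𝟙 A)⁻¹ = p⁻¹ := fun p => by rw [GrpObj.comp_inv, Category.comp_id]
  calc theta (ev a ((𝟙 A)⁻¹)) = th a (fst A A)⁻¹ (snd A A)⁻¹ := by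
        rw [theta, th, ev_comp, ev_comp, ev_comp, hi, hi, hi, mul_inv]
    _ = ev (theta a) (lift (fst A A) (snd A A)) := by rw [← th_eq, e1]
    _ = theta a := by rw [lift_fst_snd]; exact ev_self _

end classes

variable {B Bt : Over (Spec (CommRingCat.of k))} [GrpObj B] [IsProper B.hom] [GeometricallyIntegral B.hom]
  [GrpObj Bt] [IsProper Bt.hom] [GeometricallyIntegral Bt.hom]
  {φ : AgPol.DualMap B Bt} (hφ : AbDual.IsDualAV Scheme.fppfPrecoverage B Bt φ)

include hφ in
/-- A Poincaré class exists. -/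
theorem exists_poincare :
    ∃ P : (PicF.XT B.hom Bt).Modules, PicF.IsInvertible P ∧ AbDual.IsPoincareCl B Bt φ (PicF.cl P) := by
  haveI : IsCommMonObj B := isCommMonObj_of_av
  haveI : IsCommMonObj Bt := isCommMonObj_of_av
  obtain ⟨H, hH⟩ := H25AbCube.exists_isAmple B
  obtain ⟨g, hg⟩ : ∃ g : ℕ, topologicalKrullDim B.left = g := by
    haveI : IsIntegral B.left := GeometricallyIntegral.isIntegral_of_subsingleton B.hom
    exact H25Grp.exists_nat_dim B.hom
  obtain ⟨hgt, hfin, hsur, -⟩ := degree_lam hφ H hH hg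
  haveI := hfin
  haveI := hsur
  haveI := isMonHom_lam_field hφ (pc H hH.1)
  haveI : IsIntegral Bt.left := GeometricallyIntegral.isIntegral_of_subsingleton Bt.hom
  haveI : Flat (Φ φ B (theta (pc H hH.1))).left := flat_of_finite _ hg hgt
  haveI : LocallyOfFinitePresentation (Φ φ B (theta (pc H hH.1))).left := by
    haveI : IsLocallyNoetherian Bt.left := LocallyOfFiniteType.isLocallyNoetherian Bt.hom
    exact LocallyOfFinitePresentation.iff_locallyOfFiniteType.2 inferInstance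
  obtain ⟨Λ, hΛ, hu⟩ := exists_rep (theta (pc H hH.1))
  have hz : AbDual.IsPicZeroCl B.hom B (PicF.cl Λ) := by
    refine picZero_mumford hH.1 hΛ ?_
    let p := (fst B B).left
    let q := (snd B B).left
    have hp := H11Ample.isInvertible_pullback p hH.1
    have hq := H11Ample.isInvertible_pullback q hH.1
    have hm := H11Ample.isInvertible_pullback (μ[B].left) hH.1
    have hNp := H11Ample.isInvertible_tensor (M := Λ) hΛ hp
    refine (pc_eq_iff (H11Ample.isInvertible_tensor hNp hq) hm).1 ?_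
    rw [pc_tensor hNp hq, pc_tensor hΛ hp, hu, pullP_pc _ H hH.1 hp, pullP_pc _ H hH.1 hq, pullP_pc _ H hH.1 hm,
      theta, show fst B B * snd B B = μ[B] from (congrArg (· ≫ μ[B]) lift_fst_snd).trans (Category.id_comp _)]
    show ev (pc H hH.1) μ[B] - ev (pc H hH.1) (fst B B) - ev (pc H hH.1) (snd B B) + ev (pc H hH.1) (fst B B) +
      ev (pc H hH.1) (snd B B) = ev (pc H hH.1) μ[B]
    abel
  have hr : IsRigidified B Λ := by
    have h : ev (theta (pc H hH.1)) (lift (1 : B ⟶ B) (𝟙 B)) = 0 := theta_one_left _ _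
    rw [← hu, ev, ← pullP_pc _ Λ hΛ (H11Ample.isInvertible_pullback _ hΛ), ← pc_one] at h
    obtain ⟨e⟩ := (pc_eq_iff _ _).1 h
    exact ⟨(Scheme.Modules.pullbackCongr (secT_eq B)).app Λ ≪≫ e⟩
  obtain ⟨P, hP, hξ, -⟩ := H25Poinc.exists_poincare_of_cover hφ Λ hΛ hz hr (Φ φ B (theta (pc H hH.1)))
    (by rw [← Φ_pc (φ := φ) B Λ hΛ, hu])
  exact ⟨P, hP, hξ⟩

include hφ in
/-- A polarization of degree `d²` gives an ample module over the base field with bounded invariants. -/
theorem exists_isAmple_of_polarization {g : ℕ} (hg : topologicalKrullDim B.left = g) {lam : B ⟶ Bt}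
    (hlam : AgPol.IsPolarization B Bt φ lam) {d : ℕ} (hdeg : AgPol.HasDegSq lam d) :
    ∃ L : B.left.Modules, CohB1.IsAmple L ∧ hd k (CohB1.tensorMod L L) 0 = 4 ^ g * d := by
  haveI := hlam.1
  obtain ⟨hfin, hflat, hlfp, hrank⟩ := hdeg
  haveI := hfin
  haveI := hflat
  obtain ⟨P, hP, hξ⟩ := exists_poincare hφ
  obtain ⟨hl, -, -, -⟩ := poincare_facts hφ P hP hξ (T := B)
  obtain ⟨hz, hid, -⟩ := hξ
  let w₀ : PC (B ⊗ B).left := ev (pc (X := (B ⊗ Bt).left) P hP) (B ◁ lam)
  have hPz : PZ B Bt (pc (X := (B ⊗ Bt).left) P hP) := pz_pc hP hz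
  have hwz : PZ B B w₀ := pz_ev_left lam hPz
  have hwΦ : Φ φ B w₀ = lam := by
    rw [Φ_nat hφ lam hPz, show Φ φ Bt (pc (X := (B ⊗ Bt).left) P hP) = 𝟙 Bt from (Φ_pc _ P hP).trans hid,
      Category.comp_id]
  have hwr : ev w₀ (lift (1 : B ⟶ B) (𝟙 B)) = 0 := by
    rw [ev_comp, show lift (1 : B ⟶ B) (𝟙 B) ≫ (B ◁ lam) = lift 1 lam by
      apply CartesianMonoidalCategory.hom_ext <;> simp]
    exact hl lam
  obtain ⟨h1, h2, h3⟩ := gp_facts (B := B)
  haveI : IsProper (gX Bt).hom := MorphismProperty.pullback_snd (P := @IsProper) _ _ ‹IsProper Bt.hom›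
  haveI : GeometricallyIntegral (gX Bt).hom :=
    MorphismProperty.pullback_snd (P := @GeometricallyIntegral) _ _ ‹GeometricallyIntegral Bt.hom›
  let φ' : AgPol.DualMap (gX B) (gX Bt) := AgPol.bcDual (σ k (Kbar k)) B Bt φ
  have hφ' : AbDual.IsDualAV Scheme.fppfPrecoverage (gX B) (gX Bt) φ' := BaseChange.isDualAV_bc _ hφ
  obtain ⟨Lℓ, hLℓ, hΛ⟩ := hlam.2 (Kbar k) (σ k (Kbar k))
  let lam' : gX B ⟶ gX Bt := (bc k (Kbar k)).map lam
  let ℓ : PC (gX B).left := pc Lℓ hLℓ.1
  have hlam' : Φ φ' (gX B) (theta ℓ) = lam' := Φ_theta_of_isLambda hφ' hLℓ.1 hΛ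
  have hgp : gp B ≫ B.hom = (gX B).hom ≫ σ k (Kbar k) := pullback.condition
  let q : (gX B ⊗ gX B).left ⟶ (B ⊗ B).left :=
    pullback.lift ((fst (gX B) (gX B)).left ≫ gp B) ((snd (gX B) (gX B)).left ≫ gp B) (by
      rw [Category.assoc, Category.assoc, hgp, ← Category.assoc, ← Category.assoc, Over.w, Over.w])
  have hq1 : q ≫ (fst B B).left = (fst (gX B) (gX B)).left ≫ gp B := pullback.lift_fst _ _ _
  have hq2 : q ≫ (snd B B).left = (snd (gX B) (gX B)).left ≫ gp B := pullback.lift_snd _ _ _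
  let w' : PC (gX B ⊗ gX B).left := pullP q w₀
  have hlift : ∀ (a b : gX B ⟶ gX B) (a₀ b₀ : B ⟶ B), a.left ≫ gp B = gp B ≫ a₀.left →
      b.left ≫ gp B = gp B ≫ b₀.left → (lift a b).left ≫ q = gp B ≫ (lift a₀ b₀).left := by
    intro a b a₀ b₀ ha hb
    apply pullback.hom_ext
    · show ((lift a b).left ≫ q) ≫ (fst B B).left = (gp B ≫ (lift a₀ b₀).left) ≫ (fst B B).left
      rw [Category.assoc, hq1, ← Category.assoc, ← Over.comp_left, lift_fst, Category.assoc, ← Over.comp_left,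
        lift_fst, ha]
    · show ((lift a b).left ≫ q) ≫ (snd B B).left = (gp B ≫ (lift a₀ b₀).left) ≫ (snd B B).left
      rw [Category.assoc, hq2, ← Category.assoc, ← Over.comp_left, lift_snd, Category.assoc, ← Over.comp_left,
        lift_snd, hb]
  have hid' : (𝟙 (gX B) : gX B ⟶ gX B).left ≫ gp B = gp B ≫ (𝟙 B : B ⟶ B).left := by simp
  have hone : ((1 : gX B ⟶ gX B)).left ≫ gp B = gp B ≫ ((1 : B ⟶ B)).left := by
    have e : (bc k (Kbar k)).map (1 : B ⟶ B) = (1 : gX B ⟶ gX B) :=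
      map_one (Functor.homMonoidHom (bc k (Kbar k)))
    exact (congrArg (fun f => f.left ≫ gp B) e).symm.trans (pullback.lift_fst _ _ _)
  have hw'r : ev w' (lift (1 : gX B ⟶ gX B) (𝟙 (gX B))) = 0 := by
    show pullP _ (pullP q w₀) = 0
    rw [pullP_pullP, hlift _ _ _ _ hone hid', ← pullP_pullP]
    exact (congrArg (pullP (gp B)) hwr).trans (map_zero _)
  have hw'z : PZ (gX B) (gX B) w' := by
    unfold PZ at hwz ⊢
    show AbDual.IsPicZeroCl _ _ (toCl (pullP q w₀))
    erw [toCl_pullP]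
    exact BaseChange.picZero_pull' (gp B) q hq2 hwz
  have hw'Φ : Φ φ' (gX B) w' = lam' := by
    show φ' (gX B) (toCl w') = lam'
    refine BaseChange.hom_ext_bc (σ k (Kbar k)) ?_
    rw [BaseChange.bcDual_fst, show toCl (X := PicF.XT (gX B).hom (gX B)) w' = PicF.pullCl q (toCl w₀) from toCl_pullP q w₀]
    let ε : down (σ k (Kbar k)) (gX B) ⟶ B := Over.homMk (gp B) hgp
    have e : toS B.hom (σ k (Kbar k)) (gX B) (PicF.pullCl q (toCl w₀)) =
        PicF.pullCl (PicF.XTmap B.hom ε) (toCl w₀) := by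
      rw [toS, ← H17.PullCl.pullCl_comp]
      congr 1
      apply pullback.hom_ext
      · rw [Category.assoc]
        show (pullbackLeftPullbackSndIso B.hom (σ k (Kbar k)) (gX B).hom).inv ≫ q ≫ (fst B B).left = _
        rw [hq1]
        simp [PicF.XTmap]
      · rw [Category.assoc]
        show (pullbackLeftPullbackSndIso B.hom (σ k (Kbar k)) (gX B).hom).inv ≫ q ≫ (snd B B).left = _
        rw [hq2]
        simp [PicF.XTmap, ε]
    rw [e, hφ.relPic.natural _ _ ε _ hwz]
    show (ε ≫ Φ φ B w₀).left = lam'.left ≫ pullback.fst Bt.hom (σ k (Kbar k))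
    rw [hwΦ, Over.comp_left]
    simp [lam', ε, Over.pullback_map_left]
  have hw' : w' = theta ℓ :=
    rig_eq hφ' hw'z (pz_theta ℓ) hw'r (theta_one_left ℓ (𝟙 _)) (hw'Φ.trans hlam'.symm)
  obtain ⟨L, hL, hLe⟩ := exists_rep (ev w₀ (lift (𝟙 B) (𝟙 B)))
  have hLg : pc (gM L) (H11Ample.isInvertible_pullback (gp B) hL) = ℓ + ev ℓ ((𝟙 (gX B))⁻¹) := by
    rw [pullP_pc (gp B) L hL, hLe]
    show pullP (gp B) (pullP _ w₀) = _
    rw [pullP_pullP, ← hlift _ _ _ _ hid' hid', ← pullP_pullP]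
    show ev w' (lift (𝟙 (gX B)) (𝟙 (gX B))) = _
    rw [hw', ev_theta, ← pow_two, H25AbCube.ev_pow, ev_self, Nat.choose_self, one_nsmul, two_nsmul]
    abel
  -- ampleness
  have hinv : ((𝟙 (gX B))⁻¹ : gX B ⟶ gX B) ≫ (𝟙 (gX B))⁻¹ = 𝟙 (gX B) := by
    rw [GrpObj.comp_inv, Category.comp_id, _root_.inv_inv]
  haveI : IsIso ((𝟙 (gX B))⁻¹ : gX B ⟶ gX B) := ⟨(𝟙 (gX B))⁻¹, hinv, hinv⟩
  haveI : IsIso ((𝟙 (gX B))⁻¹ : gX B ⟶ gX B).left :=
    inferInstanceAs (IsIso ((Over.forget _).map ((𝟙 (gX B))⁻¹ : gX B ⟶ gX B)))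
  let i := ((𝟙 (gX B))⁻¹ : gX B ⟶ gX B).left
  haveI : IsAffineHom i := inferInstance
  have hLi : CohB1.IsAmple ((Scheme.Modules.pullback i).obj Lℓ) := H11Ample.isAmple_pullback_of_isAffineHom i hLℓ
  have hM : CohB1.IsAmple (CohB1.tensorMod Lℓ ((Scheme.Modules.pullback i).obj Lℓ)) :=
    (Groth.Agent.S4381.result (gX B).hom _).1 (Groth.Agent.S4384.result (gX B).hom _ _
      ((Groth.Agent.S4381.result (gX B).hom _).2 hLℓ) ((Groth.Agent.S4381.result (gX B).hom _).2 hLi))
  have hMe : pc _ hM.1 = ℓ + ev ℓ ((𝟙 (gX B))⁻¹) := by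
    rw [pc_tensor hLℓ.1 hLi.1, pullP_pc i Lℓ hLℓ.1]
    rfl
  obtain ⟨eL⟩ := (pc_eq_iff (H11Ample.isInvertible_pullback (gp B) hL) hM.1).1 (hLg.trans hMe.symm)
  have hLgA : CohB1.IsAmple (gM L) := H11Ample.isAmple_of_iso eL.symm hM
  haveI : Flat (σ k (Kbar k)) := flat_σ k (Kbar k)
  haveI : Surjective (σ k (Kbar k)) := surjective_σ k (Kbar k)
  have hLA : CohB1.IsAmple L := H06FpqcAmple.isAmple_of_fpqc B.hom (σ k (Kbar k)) hL hLgA
  refine ⟨L, hLA, ?_⟩
  -- the invariant
  haveI : IsCommMonObj B := isCommMonObj_of_av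
  have hg' : topologicalKrullDim (gX B).left = g := dim_bc (Ω := Kbar k) B hg
  haveI : IsCommMonObj Bt := isCommMonObj_of_av
  have hgt' := dim_bc (Ω := Kbar k) Bt (dim_dual hφ hg)
  haveI : IsMonHom lam' := inferInstanceAs (IsMonHom ((bc k (Kbar k)).map lam))
  have hpb : IsPullback (pullback.fst B.hom (σ k (Kbar k))) lam'.left lam.left (pullback.fst Bt.hom (σ k (Kbar k))) :=
    isPullback_map (Ω := Kbar k) B lam
  haveI : IsFinite lam'.left := MorphismProperty.of_isPullback (P := @IsFinite) hpb hfin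
  have hdlam : degree lam' = d ^ 2 := by
    let y₀ := (η[gX Bt] : 𝟙_ _ ⟶ gX Bt).left (IsLocalRing.closedPoint (Kbar k))
    rw [← finrank_eq_degree lam' hg' hgt' y₀,
      Scheme.Hom.finrank_of_isPullback _ lam'.left lam.left _ hpb y₀]
    exact hrank _
  have key : ∀ {M : (gX B).left.Modules} (hM : CohB1.IsAmple M),
      chiCls (Kbar k) (pc M hM.1) = (hd (Kbar k) M 0 : ℤ) := fun {M} hM => by
    rw [chiCls_pc, euler_eq_of_concentrated M 0 fun j hj => (H25Index.ample_vanishing M hM).1 j (Nat.pos_of_ne_zero hj),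
      pow_zero, _root_.one_mul]
  have hsq : ∀ {M : (gX B).left.Modules} (hM : CohB1.IsAmple M),
      (degree (Φ φ' (gX B) (theta (pc M hM.1))) : ℤ) = (hd (Kbar k) M 0 : ℤ) ^ 2 := fun {M} hM => by
    rw [← key hM, (degree_lam hφ' M hM hg').2.2.2, chiCls_pc]
  have hℓd : hd (Kbar k) Lℓ 0 = d := by
    have h := hsq hLℓ
    rw [hlam', hdlam] at h
    exact Nat.pow_left_injective two_ne_zero (by exact_mod_cast h.symm)
  have hML : (hd (Kbar k) (CohB1.tensorMod Lℓ Lℓ) 0 : ℤ) = 2 ^ g * d := by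
    rw [← key (isAmple_square (B := gX B) hLℓ), pc_tensor hLℓ.1 hLℓ.1, ← two_nsmul,
      chiCls_nsmul _ hg' two_pos, key hLℓ, hℓd]
    norm_num
  have hMd : hd k L 0 = 2 ^ g * d := by
    have h := hsq hM
    rw [hMe, theta_add, theta_inv, ← theta_add, ← pc_tensor hLℓ.1 hLℓ.1 (isAmple_square (B := gX B) hLℓ).1,
      hsq (isAmple_square (B := gX B) hLℓ), hML] at h
    rw [← hd_gM L (isCoh_of_isInvertible hL) 0, H25Index.hd_congr eL 0]
    exact Nat.pow_left_injective two_ne_zero (by exact_mod_cast h.symm)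
  have e2 : CohB1.tensorMod L L ≅ CohB1.tensorPow L 2 :=
    (H25Theta.tI (H10Coh.Tw.commIso _ _ ≪≫ H10Coh.Tw.rightUnitIso _) (Iso.refl L)).symm
  rw [H25Index.hd_congr e2 0, hd_pow hg hLA two_pos, hMd, ← _root_.mul_assoc, ← Nat.mul_pow, show (4 : ℕ) = 2 * 2 from rfl]

end Groth.Agent.H25Bdd
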