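import Groth.Agent.H25Bdd.Chart
import Groth.Agent.H11Ample.Immersion
import Groth.Agent.H17.Ample.GenAffine
import Groth.Agent.H11Ample.Ample
import Groth.Agent.H29RR.Choice
import Groth.Agent.H10Coh.Pn.Results

/-!
# Embeddings by sections whose products span, and their homogeneous ideals
-/

set_option autoImplicit false
set_option linter.style.haveILetI false
set_option linter.unusedSectionVars false
set_option backward.isDefEq.respectTransparency false
set_option maxHeartbeats 1000000
universe u

open CategoryTheory CategoryTheory.Limits AlgebraicGeometry Opposite TopologicalSpace CohB1 MvPolynomial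
open Groth.Agent Groth.Agent.H11Tilde Groth.Agent.H11Ample

noncomputable section

namespace Groth.Agent.H25Bdd

variable {k : Type u} [Field k] {X : Scheme.{u}} {q : X ⟶ Spec (CommRingCat.of k)} {N : X.Modules} {n : ℕ}
  {v : Fin (n + 1) → Γ(N, ⊤)}

/-- Every section of a power is a sum of products of one degree less with the given sections, and the
functions are the constants. -/
structure Spanning (q : X ⟶ Spec (CommRingCat.of k)) (N : X.Modules) (v : Fin (n + 1) → Γ(N, ⊤)) : Prop where
  const : Function.Surjective (Coh.toGlobal q)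
  step : ∀ (m : ℕ) (S : Γ(CohB1.tensorPow N (m + 1), ⊤)),
    ∃ s : Fin (n + 1) → Γ(CohB1.tensorPow N m, ⊤), S = ∑ i, tm (s i) (v i)

/-- Scalars on an open. -/
def kon (q : X ⟶ Spec (CommRingCat.of k)) (G : X.Opens) : k →+* Γ(X, G) :=
  (X.presheaf.map (homOfLE (le_top : G ≤ ⊤)).op).hom.comp (Coh.toGlobal q)

theorem kon_pull {Y : Scheme.{u}} {r : X ⟶ Y} {p : Y ⟶ Spec (CommRingCat.of k)} (h : r ≫ p = q) (D : Y.Opens)
    (c : k) : r.app D (kon p D c) = kon q (r ⁻¹ᵁ D) c := by
  subst h
  exact congr($(r.naturality (homOfLE (le_top : D ≤ ⊤)).op) (Coh.toGlobal p c))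

/-- The coefficients of the sections of the powers are polynomials in the ratios. -/
theorem exists_coeff_polynomial (h : Spanning q N v) (G : X.Opens) (e : Γ(N, G)) (a : Fin (n + 1) → Γ(X, G))
    (ha : ∀ i, N.presheaf.map (homOfLE (le_top : G ≤ ⊤)).op (v i) = a i • e) :
    ∀ (m : ℕ) (S : Γ(CohB1.tensorPow N m, ⊤)), ∃ P : MvPolynomial (Fin (n + 1)) k, P.IsHomogeneous m ∧
      (CohB1.tensorPow N m).presheaf.map (homOfLE (le_top : G ≤ ⊤)).op S = eval₂Hom (kon q G) a P • spow e m
  | 0, S => by
    obtain ⟨c, hc⟩ := h.const S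
    refine ⟨MvPolynomial.C c, isHomogeneous_C _ c, ?_⟩
    rw [eval₂Hom_C, ← hc]
    exact (mul_one (kon q G c)).symm
  | m + 1, S => by
    obtain ⟨s, rfl⟩ := h.step m S
    choose P hP hPe using fun i => exists_coeff_polynomial h G e a ha m (s i)
    refine ⟨∑ i, P i * MvPolynomial.X i, IsHomogeneous.sum _ _ _ fun i _ =>
      (hP i).mul (isHomogeneous_X k i), ?_⟩
    rw [map_sum, map_sum, Finset.sum_smul]
    refine Finset.sum_congr rfl fun i _ => ?_
    rw [map_mul, eval₂Hom_X']
    refine (tm_res _ _ _).trans ?_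
    rw [hPe i, ha i, tm_smul_left, tm_smul_right, smul_smul]
    rfl

/-- Homogeneous polynomials in the sections give sections of the powers. -/
theorem exists_section_polynomial (G : X.Opens) (e : Γ(N, G)) (a : Fin (n + 1) → Γ(X, G))
    (ha : ∀ i, N.presheaf.map (homOfLE (le_top : G ≤ ⊤)).op (v i) = a i • e)
    (h0 : a 0 = 1) : ∀ (m : ℕ) (P : MvPolynomial (Fin n) k), P.totalDegree ≤ m →
      ∃ S : Γ(CohB1.tensorPow N m, ⊤), (CohB1.tensorPow N m).presheaf.map (homOfLE (le_top : G ≤ ⊤)).op S =
        eval₂Hom (kon q G) (fun j => a j.succ) P • spow e m := by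
  intro m P hP
  induction m generalizing P with
  | zero =>
    rw [totalDegree_eq_zero_iff_eq_C.1 (Nat.le_zero.1 hP)]
    refine ⟨Coh.toGlobal q (P.coeff 0), ?_⟩
    rw [eval₂Hom_C]
    exact (mul_one (kon q G (P.coeff 0))).symm
  | succ m ih =>
    classical
    rw [P.as_sum, map_sum, Finset.sum_smul]
    have hterm : ∀ d ∈ P.support, ∃ S : Γ(CohB1.tensorPow N (m + 1), ⊤),
        (CohB1.tensorPow N (m + 1)).presheaf.map (homOfLE (le_top : G ≤ ⊤)).op S =
          eval₂Hom (kon q G) (fun j => a j.succ) (monomial d (P.coeff d)) • spow e (m + 1) := by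
      intro d hd
      have hdeg : (d.sum fun _ x => x) ≤ m + 1 := (le_totalDegree hd).trans hP
      have hmul : ∀ (i : Fin (n + 1)) (Q : MvPolynomial (Fin n) k), Q.totalDegree ≤ m →
          eval₂Hom (kon q G) (fun j => a j.succ) (monomial d (P.coeff d)) =
            eval₂Hom (kon q G) (fun j => a j.succ) Q * a i →
          ∃ S : Γ(CohB1.tensorPow N (m + 1), ⊤),
            (CohB1.tensorPow N (m + 1)).presheaf.map (homOfLE (le_top : G ≤ ⊤)).op S =
              eval₂Hom (kon q G) (fun j => a j.succ) (monomial d (P.coeff d)) • spow e (m + 1) := by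
        intro i Q hQ hQe
        obtain ⟨S, hS⟩ := ih Q hQ
        refine ⟨tm S (v i), (tm_res _ _ _).trans ?_⟩
        rw [hS, ha i, hQe, tm_smul_left, tm_smul_right, smul_smul]
        rfl
      rcases le_or_gt (d.sum fun _ x => x) m with hle | hlt
      · exact hmul 0 (monomial d (P.coeff d)) ((totalDegree_monomial_le _ _).trans hle) (by rw [h0, mul_one])
      · obtain ⟨j, hj⟩ : ∃ j, d j ≠ 0 := by
          by_contra! hz
          rw [show d = 0 from Finsupp.ext hz, Finsupp.sum_zero_index] at hlt
          exact Nat.not_lt_zero _ hlt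
        obtain ⟨d', rfl⟩ : ∃ d', d = d' + Finsupp.single j 1 := by
          refine ⟨d - Finsupp.single j 1, (tsub_add_cancel_of_le ?_).symm⟩
          exact Finsupp.single_le_iff.2 (Nat.one_le_iff_ne_zero.2 hj)
        rw [Finsupp.sum_add_index' (fun _ => rfl) (fun _ _ _ => rfl), Finsupp.sum_single_index rfl] at hdeg
        refine hmul j.succ (monomial d' (P.coeff (d' + Finsupp.single j 1)))
          ((totalDegree_monomial_le _ _).trans (by exact (Nat.le_of_succ_le_succ hdeg))) ?_
        rw [show monomial (d' + Finsupp.single j 1) (P.coeff (d' + Finsupp.single j 1)) =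
          monomial d' (P.coeff (d' + Finsupp.single j 1)) * MvPolynomial.X j by
            rw [MvPolynomial.X, monomial_mul, mul_one], map_mul, eval₂Hom_X']
    choose! S hS using hterm
    refine ⟨∑ d ∈ P.support, S d, ?_⟩
    rw [map_sum]
    exact Finset.sum_congr rfl hS

/-- Substituting linear polynomials does not raise the degree of a form. -/
theorem totalDegree_sub {k : Type u} [CommRing k] {σ τ : Type} {m : ℕ} {P : MvPolynomial σ k} (hP : P.IsHomogeneous m)
    (f : σ → MvPolynomial τ k) (hf : ∀ i, (f i).totalDegree ≤ 1) : (aeval f P).totalDegree ≤ m := by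
  classical
  rw [P.as_sum, map_sum]
  refine totalDegree_finsetSum_le fun d hd => ?_
  rw [aeval_monomial]
  refine (totalDegree_mul _ _).trans ?_
  rw [show algebraMap k (MvPolynomial τ k) (P.coeff d) = MvPolynomial.C (P.coeff d) from rfl, totalDegree_C, zero_add]
  refine (totalDegree_finsetProd _ _).trans ?_
  have hd' : ∑ i ∈ d.support, d i ≤ m := (le_totalDegree hd).trans hP.totalDegree_le
  refine le_trans (Finset.sum_le_sum fun i _ => ?_) hd'
  exact (totalDegree_pow _ _).trans ((Nat.mul_le_mul_left _ (hf i)).trans_eq (mul_one _))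

/-- A closed subscheme of projective space with its homogeneous ideal, seen on the first chart. -/
def IsModel (r : X ⟶ ProjSpace n k) (I : Ideal (MvPolynomial (Fin n) k)) [IrreducibleSpace X] : Prop :=
  r (genericPoint X) ∈ D₀ n k ∧
    ∀ p : MvPolynomial (Fin n) k, r (genericPoint X) ∈ (ProjSpace n k).basicOpen (chart₀ n k p) ↔ p ∉ I

theorem ker_eq_of_point [IsIntegral X] [CompactSpace X] {Y : Scheme.{u}} (r : X ⟶ Y) [QuasiCompact r] :
    r.ker = Scheme.IdealSheafData.vanishingIdeal
      ⟨closure {r (genericPoint X)}, isClosed_closure⟩ := by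
  have hsupp : r.ker.support = ⟨closure {r (genericPoint X)}, isClosed_closure⟩ := by
    apply SetLike.coe_injective
    rw [Scheme.Hom.support_ker]
    refine subset_antisymm (closure_minimal ?_ isClosed_closure) (closure_mono (by simp))
    rintro _ ⟨x, rfl⟩
    exact image_closure_subset_closure_image r.continuous ⟨x, by rw [genericPoint_closure]; trivial, rfl⟩
      |> fun h => by simpa using h
  rw [← hsupp, Scheme.IdealSheafData.vanishingIdeal_support]
  refine (le_antisymm (fun U => ?_) (fun U => ?_))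
  · exact Ideal.le_radical
  · rintro a ⟨m, hm⟩
    rw [Scheme.Hom.ker_apply, RingHom.mem_ker] at hm ⊢
    rw [map_pow] at hm
    exact IsReduced.eq_zero _ ⟨m, hm⟩

/-- Two models with the same ideal are isomorphic over the base. -/
theorem iso_of_isModel [IsIntegral X] [CompactSpace X] {X' : Scheme.{u}} [IsIntegral X'] [CompactSpace X']
    (r : X ⟶ ProjSpace n k) (r' : X' ⟶ ProjSpace n k) [IsClosedImmersion r] [IsClosedImmersion r']
    (I : Ideal (MvPolynomial (Fin n) k)) (h : IsModel r I) (h' : IsModel r' I) :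
    ∃ e : X ≅ X', e.hom ≫ r' = r := by
  have hpt : r (genericPoint X) = r' (genericPoint X') := by
    have hD : IsAffineOpen (D₀ n k) := Proj.isAffineOpen_basicOpen (polyGrading n k) _ (H11Ample.X_mem 0) one_pos
    have key : ∀ a : Γ(ProjSpace n k, D₀ n k), r (genericPoint X) ∈ (ProjSpace n k).basicOpen a ↔
        r' (genericPoint X') ∈ (ProjSpace n k).basicOpen a := fun a => by
      obtain ⟨p, rfl⟩ := chart₀_surjective a
      rw [h.2 p, h'.2 p]
    refine Inseparable.eq (inseparable_iff_forall_isOpen.2 fun O hO => ?_)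
    constructor <;> intro hy
    · obtain ⟨a, ha, haO⟩ := hD.exists_basicOpen_le (V := ⟨O, hO⟩) ⟨r (genericPoint X), hy⟩ h.1
      exact ha ((key a).1 haO)
    · obtain ⟨a, ha, haO⟩ := hD.exists_basicOpen_le (V := ⟨O, hO⟩) ⟨r' (genericPoint X'), hy⟩ h'.1
      exact ha ((key a).2 haO)
  have hker : r.ker = r'.ker := by rw [ker_eq_of_point, ker_eq_of_point, hpt]
  haveI := IsClosedImmersion.isIso_lift r' r hker.symm
  exact ⟨asIso (IsClosedImmersion.lift r' r hker.ge), IsClosedImmersion.lift_fac r' r hker.ge⟩

variable [X.Over (Spec (CommRingCat.of k))]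

/-- Spanning sections of an ample module embed, with the Hilbert function given by the sections of the powers. -/
theorem exists_model [IsIntegral X] [IsProper (X ↘ Spec (CommRingCat.of k))] (hNa : CohB1.IsAmple N)
    (hcov : ∀ x, ∃ i, x ∈ gen N (v i)) (hv0 : v 0 ≠ 0) (h : Spanning (X ↘ Spec (CommRingCat.of k)) N v) :
    ∃ (r : X ⟶ ProjSpace n k) (I : Ideal (MvPolynomial (Fin n) k)), IsClosedImmersion r ∧
      r ≫ ProjSpace.toSpec n k = X ↘ Spec (CommRingCat.of k) ∧ IsModel r I ∧
      ∀ m, Module.finrank k ((restrictTotalDegree (Fin n) k m).map (Ideal.Quotient.mkₐ k I).toLinearMap) =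
        Module.finrank k (Coh.HH X (CohB1.tensorPow N m) 0) := by
  classical
  let q := X ↘ Spec (CommRingCat.of k)
  have hN : PicF.IsInvertible N := hNa.1
  haveI : CompactSpace X := hNa.2.1
  haveI : IsLocallyNoetherian X := LocallyOfFiniteType.isLocallyNoetherian q
  haveI : QuasiSeparatedSpace X := quasiSeparatedSpace_of_quasiSeparated q
  obtain ⟨r, hr, hpre, hrat⟩ := exists_toPn_ratio q hN v hcov
  let D : Fin (n + 1) → (ProjSpace n k).Opens := fun l =>
    Proj.basicOpen (polyGrading n k) (MvPolynomial.X l : MvPolynomial (Fin (n + 1)) k)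
  let e : ∀ l, Γ(N, r ⁻¹ᵁ D l) := fun l => N.presheaf.map (homOfLE le_top).op (v l)
  have he : ∀ l, IsGen N (e l) := fun l => by
    have h1 := (isGen_gen (L := N) (v l)).res (hpre l).le
    rwa [H10Coh.mres_mres] at h1
  let a : ∀ (l i : Fin (n + 1)), Γ(X, r ⁻¹ᵁ D l) := fun l i =>
    r.app (D l) (ratio (polyGrading n k) (H11Ample.X_mem l) (H11Ample.X_mem i))
  have ha : ∀ l i, N.presheaf.map (homOfLE (le_top : r ⁻¹ᵁ D l ≤ ⊤)).op (v i) = a l i • e l := hrat
  have ha1 : ∀ l, a l l = 1 := fun l => by simp only [a, ratio_self, map_one]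
  -- the ring of functions of each chart comes from projective space
  have hsurj : ∀ l, Function.Surjective (r.app (D l)) := by
    intro l f
    let s : Γ(CohB1.tensorPow N 1, ⊤) := spow (v l) 1
    have hs : gen (CohB1.tensorPow N 1) s = r ⁻¹ᵁ D l := (gen_spow hN (v l) 1 one_pos).trans (hpre l).symm
    obtain ⟨M, hM⟩ := exists_extend_fun hN 1 s (X.presheaf.map (homOfLE hs.le).op f)
    obtain ⟨S, hS⟩ := hM M le_rfl
    have hSe := hS (r ⁻¹ᵁ D l) hs.ge (e l) 1 (he l) (by rw [one_smul]; exact spow_res le_top (v l) 1)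
    obtain ⟨P, -, hP⟩ := exists_coeff_polynomial h (r ⁻¹ᵁ D l) (e l) (a l) (ha l) (M * 1) S
    have hf : eval₂Hom (kon q (r ⁻¹ᵁ D l)) (a l) P = f := by
      have h2 := hP.symm.trans hSe
      have h3 := ((isGen_spow (he l) (M * 1)).bijective le_rfl).1 (a₁ := eval₂Hom (kon q (r ⁻¹ᵁ D l)) (a l) P)
        (a₂ := f) (by
          simp only [H10Coh.mres_self]
          refine h2.trans ?_
          rw [one_pow, one_mul, ← ConcreteCategory.comp_apply, ← Functor.map_comp]
          congr 1
          exact congrArg (fun φ => φ f) (congrArg (fun φ => (ConcreteCategory.hom φ)) (X.presheaf.map_id _)))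
      exact h3
    refine RingHom.mem_range.1 (show f ∈ (r.app (D l)).hom.range from hf ▸ ?_)
    clear hf hP
    induction P using MvPolynomial.induction_on with
    | C c => exact ⟨kon (ProjSpace.toSpec n k) (D l) c, by rw [eval₂Hom_C]; exact kon_pull hr (D l) c⟩
    | add A B hA hB => rw [map_add]; exact add_mem hA hB
    | mul_X A i hA => rw [map_mul, eval₂Hom_X']; exact mul_mem hA ⟨_, rfl⟩
  have hcl : IsClosedImmersion r := by
    refine (IsZariskiLocalAtTarget.iff_of_iSup_eq_top (P := @IsClosedImmersion) D ?_).2 fun l => ?_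
    · exact eq_top_iff.2 fun y _ => by
        obtain ⟨l, hl⟩ := exists_mem_basicOpen_X (n := n) (R := k) y
        exact Opens.mem_iSup.2 ⟨l, hl⟩
    refine isClosedImmersion_morphismRestrict
      (Proj.isAffineOpen_basicOpen (polyGrading n k) _ (H11Ample.X_mem l) one_pos) ?_ (hsurj l)
    rw [hpre l]
    exact H17.GenAffine.isAffineOpen_gen q hNa (v l)
  -- the generic point
  let G := r ⁻¹ᵁ D 0
  have hη : genericPoint X ∈ G := by
    show genericPoint X ∈ r ⁻¹ᵁ D 0
    rw [hpre 0]
    exact H29RR.genericPoint_mem_gen hN hv0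
  haveI : Nonempty G := ⟨⟨_, hη⟩⟩
  let γ' : Γ(X, G) →+* X.functionField := (X.presheaf.germ G (genericPoint X) hη).hom
  have hγ : Function.Injective γ' := AlgebraicGeometry.germ_injective_of_isIntegral X (genericPoint X) hη
  let φ : MvPolynomial (Fin n) k →+* Γ(X, G) := eval₂Hom (kon q G) (fun j => a 0 j.succ)
  have hφ : ∀ p, r.app (D 0) (chart₀ n k p) = φ p := by
    intro p
    induction p using MvPolynomial.induction_on with
    | C c =>
      rw [chart₀_C]
      exact (kon_pull hr (D 0) c).trans (eval₂Hom_C _ _ c).symm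
    | add A B hA hB => rw [map_add, map_add, map_add, hA, hB]
    | mul_X A j hA =>
      rw [map_mul, map_mul, map_mul, hA, chart₀_X, show φ (MvPolynomial.X j) = a 0 j.succ from eval₂Hom_X' _ _ j]
  refine ⟨r, RingHom.ker φ, hcl, hr, ⟨hη, fun p => ?_⟩, fun m => ?_⟩
  · have hb : r (genericPoint X) ∈ (ProjSpace n k).basicOpen (chart₀ n k p) ↔
        genericPoint X ∈ X.basicOpen (φ p) := by
      rw [← hφ p, ← Scheme.preimage_basicOpen]
      rfl
    rw [hb, Scheme.mem_basicOpen _ _ _ hη, RingHom.mem_ker]
    constructor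
    · intro hu h0
      rw [h0, map_zero] at hu
      exact not_isUnit_zero hu
    · intro hne
      letI : Field (X.presheaf.stalk (genericPoint X)) := inferInstanceAs (Field X.functionField)
      exact isUnit_iff_ne_zero.2 fun h0 => hne (hγ (h0.trans (map_zero γ').symm))
  · letI : Algebra k Γ(X, G) := (kon q G).toAlgebra
    let φₐ : MvPolynomial (Fin n) k →ₐ[k] Γ(X, G) := { φ with commutes' := fun c => eval₂Hom_C _ _ c }
    have hu : Function.Bijective fun c : Γ(X, G) => c • spow (e 0) m := by
      have h1 := (isGen_spow (he 0) m).bijective (W := G) le_rfl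
      refine Eq.mpr (congrArg Function.Bijective (funext fun c => ?_)) h1
      rw [H10Coh.mres_self]
    let co : Γ(CohB1.tensorPow N m, ⊤) → Γ(X, G) := fun S =>
      (Equiv.ofBijective _ hu).symm ((CohB1.tensorPow N m).presheaf.map (homOfLE le_top).op S)
    have hco : ∀ S, co S • spow (e 0) m = (CohB1.tensorPow N m).presheaf.map (homOfLE le_top).op S :=
      fun S => (Equiv.ofBijective _ hu).apply_symm_apply _
    let L : Coh.HH X (CohB1.tensorPow N m) 0 →ₗ[k] Γ(X, G) :=
      { toFun := fun x => co (H10Coh.HH0Equiv _ x)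
        map_add' := fun x y => hu.1 (by
          simp only [add_smul, hco]
          rw [map_add, map_add])
        map_smul' := fun c x => hu.1 (by
          simp only [RingHom.id_apply]
          rw [Algebra.smul_def, mul_smul, hco, hco]
          erw [H10Coh.HH0Equiv_smul, Scheme.Modules.map_smul]
          rfl) }
    have hLi : Function.Injective L := by
      intro x y hxy
      refine (H10Coh.HH0Equiv _).injective ?_
      have h1 : (CohB1.tensorPow N m).presheaf.map (homOfLE (le_top : G ≤ ⊤)).op (H10Coh.HH0Equiv _ x) =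
          (CohB1.tensorPow N m).presheaf.map (homOfLE (le_top : G ≤ ⊤)).op (H10Coh.HH0Equiv _ y) :=
        (hco _).symm.trans ((congrArg (fun c => c • spow (e 0) m) hxy).trans (hco _))
      by_contra hne
      have hM := isInvertible_tensorPow hN m
      have hd := sub_ne_zero.2 hne
      have h2 := ((mem_gen_iff hM _ _).1 (H29RR.genericPoint_mem_gen hM hd)).1
      have h0 : (CohB1.tensorPow N m).presheaf.germ ⊤ (genericPoint X) trivial
          (H10Coh.HH0Equiv _ x - H10Coh.HH0Equiv _ y) = 0 := by
        rw [← TopCat.Presheaf.germ_res_apply _ (homOfLE (le_top : G ≤ ⊤)) _ hη, map_sub, sub_eq_zero.2 h1, map_zero]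
      rw [h0] at h2
      exact one_ne_zero (h2 (a₁ := 1) (a₂ := 0) (by simp))
    have hrange : LinearMap.range L = (restrictTotalDegree (Fin n) k m).map φₐ.toLinearMap := by
      refine le_antisymm ?_ ?_
      · rintro _ ⟨x, rfl⟩
        obtain ⟨P, hPh, hP⟩ := exists_coeff_polynomial h G (e 0) (a 0) (ha 0) m (H10Coh.HH0Equiv _ x)
        let sub : Fin (n + 1) → MvPolynomial (Fin n) k := Fin.cons 1 MvPolynomial.X
        refine ⟨aeval sub P, (mem_restrictTotalDegree _ _ _).2 ((totalDegree_sub hPh sub fun i => ?_)), ?_⟩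
        · refine Fin.cases ?_ (fun j => ?_) i
          · simp [sub]
          · simp [sub, totalDegree_X]
        · show φ (aeval sub P) = co _
          refine hu.1 ?_
          simp only [hco]
          rw [hP]
          congr 1
          refine RingHom.congr_fun (f := φ.comp (aeval sub).toRingHom)
            (MvPolynomial.ringHom_ext (fun c => ?_) (fun i => ?_)) P
          · simp [φ, q]
          · refine Fin.cases ?_ (fun j => ?_) i
            · simp [sub, φ, ha1 0]
            · simp [sub, φ]
      · rintro _ ⟨P, hP, rfl⟩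
        obtain ⟨S, hS⟩ := exists_section_polynomial G (e 0) (a 0) (ha 0) (ha1 0) m P
          ((mem_restrictTotalDegree _ _ _).1 hP)
        refine ⟨(H10Coh.HH0Equiv _).symm S, hu.1 ?_⟩
        show co (H10Coh.HH0Equiv _ ((H10Coh.HH0Equiv _).symm S)) • spow (e 0) m = _
        rw [AddEquiv.apply_symm_apply, hco]
        exact hS
    rw [← LinearMap.finrank_range_of_inj hLi, hrange]
    let ψ : (MvPolynomial (Fin n) k ⧸ RingHom.ker φ) →ₐ[k] Γ(X, G) :=
      Ideal.Quotient.liftₐ (RingHom.ker φ) φₐ fun _ h => h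
    have hψ : Function.Injective ψ.toLinearMap := RingHom.kerLift_injective φ
    have he' := (Submodule.equivMapOfInjective ψ.toLinearMap hψ
      ((restrictTotalDegree (Fin n) k m).map (Ideal.Quotient.mkₐ k (RingHom.ker φ)).toLinearMap)).finrank_eq
    rw [← Submodule.map_comp] at he'
    exact he'

end Groth.Agent.H25Bdd
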