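import Mathlib.RingTheory.MvPolynomial.Basic
import Mathlib.RingTheory.Polynomial.Basic
import Mathlib.FieldTheory.Finite.Basic
import Mathlib.LinearAlgebra.FiniteDimensional.Lemmas

/-!
# Finitely many ideals over a finite field have a given Hilbert function
-/

set_option autoImplicit false
set_option linter.style.haveILetI false
universe u

open MvPolynomial

noncomputable section

namespace Groth.Agent.H25Bdd

variable {k : Type u} [Field k] {σ : Type} [Finite σ]

instance finiteDimensional_restrictTotalDegree (m : ℕ) : Module.Finite k (restrictTotalDegree σ k m) := by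
  haveI : Finite ↑{n : σ →₀ ℕ | (n.sum fun _ e => e) ≤ m} := (Finsupp.finite_of_degree_le m).to_subtype
  exact Module.Finite.of_basis (basisRestrictSupport k _)

/-- The part of degree at most `m` of an ideal. -/
def trunc (I : Ideal (MvPolynomial σ k)) (m : ℕ) : Submodule k (restrictTotalDegree σ k m) :=
  (I.restrictScalars k).comap (restrictTotalDegree σ k m).subtype

theorem mem_trunc {I : Ideal (MvPolynomial σ k)} {m : ℕ} {p : restrictTotalDegree σ k m} :
    p ∈ trunc I m ↔ (p : MvPolynomial σ k) ∈ I := Iff.rfl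

theorem finrank_trunc (I : Ideal (MvPolynomial σ k)) (m : ℕ) :
    Module.finrank k ((restrictTotalDegree σ k m).map (Ideal.Quotient.mkₐ k I).toLinearMap) +
      Module.finrank k (trunc I m) = Module.finrank k (restrictTotalDegree σ k m) := by
  let f := (Ideal.Quotient.mkₐ k I).toLinearMap.comp (restrictTotalDegree σ k m).subtype
  have h1 : LinearMap.ker f = trunc I m := by
    ext p
    simp [f, trunc, Ideal.Quotient.eq_zero_iff_mem]
  have h2 : LinearMap.range f = (restrictTotalDegree σ k m).map (Ideal.Quotient.mkₐ k I).toLinearMap := by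
    rw [LinearMap.range_comp, Submodule.range_subtype]
  rw [← h1, ← h2]
  exact f.finrank_range_add_finrank_ker

/-- Over a finite field finitely many ideals of a polynomial ring have a given Hilbert function. -/
theorem finite_ideals [Finite k] (h : ℕ → ℕ) :
    {I : Ideal (MvPolynomial σ k) | ∀ m,
      Module.finrank k ((restrictTotalDegree σ k m).map (Ideal.Quotient.mkₐ k I).toLinearMap) = h m}.Finite := by
  classical
  by_contra hinf
  set S := {I : Ideal (MvPolynomial σ k) | ∀ m,
    Module.finrank k ((restrictTotalDegree σ k m).map (Ideal.Quotient.mkₐ k I).toLinearMap) = h m}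
  haveI : ∀ m, Finite (restrictTotalDegree σ k m) := fun m => Module.finite_of_finite k
  haveI : ∀ m, Finite (Submodule k (restrictTotalDegree σ k m)) := fun m =>
    Finite.of_injective (fun T => (T : Set (restrictTotalDegree σ k m))) SetLike.coe_injective
  have step : ∀ (R : Set (Ideal (MvPolynomial σ k))) (m : ℕ), R.Infinite →
      ∃ T : Submodule k (restrictTotalDegree σ k m), {I ∈ R | trunc I m = T}.Infinite := by
    intro R m hR
    by_contra! hc
    exact hR ((Set.finite_iUnion hc).subset fun I hI => Set.mem_iUnion.2 ⟨trunc I m, hI, rfl⟩)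
  choose T hT using step
  let R : ℕ → {R : Set (Ideal (MvPolynomial σ k)) // R.Infinite} := fun m =>
    Nat.rec ⟨{I ∈ S | trunc I 0 = T S 0 hinf}, hT S 0 hinf⟩
      (fun m R => ⟨{I ∈ R.1 | trunc I (m + 1) = T R.1 (m + 1) R.2}, hT _ _ R.2⟩) m
  have hsub : ∀ m, (R (m + 1)).1 ⊆ (R m).1 := fun m I hI => hI.1
  have hanti : ∀ {a b}, a ≤ b → (R b).1 ⊆ (R a).1 := fun {a b} hab => antitone_nat_of_succ_le (f := fun m => (R m).1) hsub hab
  have hS : ∀ m, (R m).1 ⊆ S := fun m I hI => (hanti (Nat.zero_le m) hI).1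
  have heq : ∀ m, ∀ I ∈ (R m).1, ∀ I' ∈ (R m).1, trunc I m = trunc I' m := by
    rintro (_ | m) I hI I' hI' <;> exact hI.2.trans hI'.2.symm
  choose g hg using fun m => (R m).2.nonempty
  let G : Set (MvPolynomial σ k) := {p | ∃ m, p.totalDegree ≤ m ∧ p ∈ g m}
  obtain ⟨G', hG', hspan⟩ := Submodule.fg_span_iff_fg_span_finset_subset G |>.1
    (IsNoetherian.noetherian (Submodule.span (MvPolynomial σ k) G))
  choose deg hdeg hmem using fun p : G' => hG' p.2
  let d₀ := Finset.univ.sup deg
  have hJ : ∀ I ∈ (R d₀).1, ∀ p ∈ G, p ∈ I := by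
    intro I hI p hp
    refine Submodule.span_le.2 (fun q hq => ?_) (hspan ▸ Submodule.subset_span hp)
    have hle : deg ⟨q, hq⟩ ≤ d₀ := Finset.le_sup (f := deg) (Finset.mem_univ _)
    have hq' : (⟨q, (mem_restrictTotalDegree σ _ q).2 (hdeg ⟨q, hq⟩)⟩ : restrictTotalDegree σ k _) ∈
        trunc (g (deg ⟨q, hq⟩)) _ := hmem ⟨q, hq⟩
    rw [heq _ _ (hg _) I (hanti hle hI)] at hq'
    exact hq'
  have hle : ∀ I ∈ (R d₀).1, ∀ m, trunc (g m) m = trunc I m := by
    intro I hI m
    refine Submodule.eq_of_le_of_finrank_eq (fun p hp => hJ I hI _ ⟨m, (mem_restrictTotalDegree σ m _).1 p.2, hp⟩) ?_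
    have h1 := finrank_trunc (g m) m
    have h2 := finrank_trunc I m
    rw [hS m (hg m) m] at h1
    rw [hS d₀ hI m] at h2
    omega
  refine (R d₀).2 ((Set.subsingleton_of_subset_singleton (a := g d₀) fun I hI => ?_).finite)
  refine Submodule.ext fun p => ?_
  have hh := (hle I hI p.totalDegree).symm.trans (hle (g d₀) (hg d₀) p.totalDegree)
  exact SetLike.ext_iff.1 hh ⟨p, (mem_restrictTotalDegree σ _ p).2 le_rfl⟩

end Groth.Agent.H25Bdd
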