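import Groth.Agent.H28Reg.Projective
import Groth.Agent.H10Coh.Serre

/-!
# Sections of a twist are sums of products with generating sections
-/

set_option autoImplicit false
set_option linter.style.haveILetI false
set_option linter.unusedSectionVars false
set_option backward.isDefEq.respectTransparency.types false
universe u

open CategoryTheory CategoryTheory.Limits AlgebraicGeometry Opposite TopologicalSpace ZeroObject
open Groth.Agent.H22Alg Groth.Agent.H11Ample Groth.Agent.H11Tilde
attribute [local instance 10000] Groth.Agent.H10Coh.hasSheafifyAb Groth.Agent.H10Coh.hasWeakSheafifyAb Groth.Agent.H10Coh.hasExtAb Groth.Agent.H10Coh.enoughInjAb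

noncomputable section

namespace Groth.Agent.H25Bdd

variable {X : Scheme.{u}} {L G : X.Modules} {v : ℕ → Γ(L, ⊤)}

/-- The top of an exact Koszul complex with acyclic terms is surjective on global sections. -/
theorem exists_eq_sum_tm (hL : PicF.IsInvertible L) {r : ℕ} (hv : ∀ z : X, ∃ k < r + 1, z ∈ gen L (v k))
    (hvan : ∀ j e, j + e + 1 = r → Subsingleton (Coh.HH X (KosTwist.A L G j) (1 + e)))
    (y : Γ(KosTwist.A L G (r + 1), ⊤)) :
    ∃ m : ℕ → Γ(KosTwist.A L G r, ⊤), y = ∑ k ∈ Finset.range (r + 1), tm (m k) (v k) := by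
  obtain ⟨h0, hex⟩ := KosTwist.exact (L := L) (G := G) (v := v) hL hv 0
  let A := KosTwist.A L G
  let x := KosTwist.mul L G v
  let d := KosLine.d A x (r + 1) 0
  have w : ∀ j, d j ≫ d (j + 1) = 0 := KosLine.d_d (fun a b s => KosTwist.mul_comm' L G v hL a b s) (r + 1) 0
  have h : ∀ j e, j + e = r → Subsingleton (Coh.HH X (kernel (d j)) (1 + e)) := by
    intro j
    induction j with
    | zero =>
      exact fun e _ => ESZ.subsingleton_HH_of_isZero
        ((isZero_zero _).of_iso (haveI : Mono (d 0) := h0; kernel.ofMono (d 0))) _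
    | succ j ih =>
      intro e he
      refine H28Reg.hh_right (ExactVanish.shortExact_cycles w hex j) (1 + e) ?_
        (show Subsingleton (Coh.HH X _ (1 + (e + 1))) from ih (e + 1) (by omega))
      refine KosLine.mem_L (A := A) (fun M => Subsingleton (Coh.HH X M (1 + e)))
        (ESZ.subsingleton_HH_of_isZero (isZero_zero _) _)
        (fun M N hM hN => H28Reg.hh_mid (ShortComplex.Splitting.ofHasBinaryBiproduct M N).shortExact (1 + e) hM hN)
        (r + 1) 0 j fun _ => ?_
      rw [Nat.zero_add]
      exact hvan j e (by omega)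
  haveI hiso := KosLine.isIso_top (A := A) (r + 1) 0 (r + 1) (Nat.zero_add _)
  let top' := KosLine.top A (r + 1) 0 (r + 1) (Nat.zero_add _)
  have hepi : Epi (d r) := (hex r).epi_f ((KosLine.isZero_L (A := A) (r + 1) 0 (r + 2) (by omega)).eq_of_tgt _ _)
  haveI : Epi (d r ≫ top') := epi_comp _ _
  let S : ShortComplex X.Modules := ShortComplex.mk (kernel.ι (d r ≫ top')) (d r ≫ top') (kernel.condition _)
  have hS : S.ShortExact := { exact := ShortComplex.exact_kernel _ }
  have hker : Subsingleton (Coh.HH X S.X₁ 1) :=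
    H28Reg.hh_iso (kernelCompMono (d r) top').symm 1 (h r 0 (Nat.add_zero r))
  obtain ⟨z, hz⟩ := H10Coh.surjective_app_of_subsingleton_HnM hS ⊤
    (@Equiv.subsingleton _ _ (H10Coh.HHEquiv S.X₁ 1).toEquiv.symm hker) y
  obtain ⟨q, hq⟩ := KosLine.exists_d_top A x r 0 r (Nat.zero_add _)
  refine ⟨fun k => (q k).app ⊤ z, hz.symm.trans ?_⟩
  show (d r ≫ top').app ⊤ z = _
  have hsum : ∀ (s : Finset ℕ) (F : ℕ → (KosLine.L A (r + 1) 0 r ⟶ A (r + 1))),
      (∑ k ∈ s, F k).app ⊤ z = ∑ k ∈ s, (F k).app ⊤ z := by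
    intro s F
    induction s using Finset.cons_induction with
    | empty => simp
    | cons a s ha ih => rw [Finset.sum_cons, Finset.sum_cons, ← ih]; rfl
  refine ((congrArg (fun f => Scheme.Modules.Hom.app f ⊤ z) hq).trans (hsum _ _)).trans
    (Finset.sum_congr rfl fun k _ => ?_)
  show (KosTwist.mul L G v k r).app ⊤ ((q k).app ⊤ z) = _
  rw [KosTwist.mul_app, H10Coh.mres_self]

end Groth.Agent.H25Bdd
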