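import Groth.Agent.H25Bdd.Bpf
import Groth.Agent.H25Bdd.Koszul
import Groth.Agent.H25Bdd.Embed
import Groth.Agent.H25Bdd.Ideals
import Groth.Agent.H25Index.Roots

/-!
# Finitely many abelian varieties over a finite field carry an ample module of given invariants
-/

set_option autoImplicit false
set_option linter.style.haveILetI false
set_option linter.unusedSectionVars false
set_option backward.isDefEq.respectTransparency false
set_option synthInstance.maxHeartbeats 400000
set_option maxHeartbeats 1000000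
universe u

open CategoryTheory CategoryTheory.Limits MonoidalCategory CartesianMonoidalCategory MonObj AlgebraicGeometry
  TopologicalSpace
open Groth.Agent Groth.Agent.H11Ample Groth.Agent.H11Tilde Groth.Agent.H25AbCube Groth.Agent.H25Index Groth.Agent.H22Alg Groth.Agent.H25Pic0 Groth.Agent.H25AbCube.GeomTate

noncomputable section

attribute [local instance] Functor.grpObjObj
attribute [local instance] Groth.Agent.H25AbCube.overOf

namespace Groth.Agent.H25Bdd

variable {k : Type u} [Field k] {B : Over (Spec (CommRingCat.of k))} [GrpObj B] [IsProper B.hom]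
  [GeometricallyIntegral B.hom]

theorem gp_facts : IsAffineHom (gp B) ∧ IsProper (gX B).hom ∧ GeometricallyIntegral (gX B).hom := by
  haveI : IsAffineHom (H25AbCube.GeomTate.σ k (Kbar k)) := isAffineHom_of_isAffine _
  exact ⟨MorphismProperty.pullback_fst (P := @IsAffineHom) _ _ inferInstance,
    MorphismProperty.pullback_snd (P := @IsProper) _ _ ‹IsProper B.hom›,
    MorphismProperty.pullback_snd (P := @GeometricallyIntegral) _ _ ‹GeometricallyIntegral B.hom›⟩

theorem isAmple_pow {L : B.left.Modules} (hL : CohB1.IsAmple L) {n : ℕ} (hn : 0 < n) :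
    CohB1.IsAmple (CohB1.tensorPow L n) := by
  haveI : CompactSpace B.left := hL.2.1
  haveI : QuasiSeparatedSpace B.left := quasiSeparatedSpace_of_quasiSeparated B.hom
  exact (isAmple_tensorPow_iff hL.1 n hn).1 hL

theorem isAmple_square {L : B.left.Modules} (hL : CohB1.IsAmple L) : CohB1.IsAmple (CohB1.tensorMod L L) := by
  haveI : CompactSpace B.left := hL.2.1
  haveI : QuasiSeparatedSpace B.left := quasiSeparatedSpace_of_quasiSeparated B.hom
  have h := isAmple_pow hL (n := 2) two_pos
  refine isAmple_of_iso (H25Theta.tI ?_ (Iso.refl L)) h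
  exact H10Coh.Tw.commIso _ _ ≪≫ H10Coh.Tw.rightUnitIso _

/-- Ample modules have no higher cohomology. -/
theorem subsingleton_HH_ample {L : B.left.Modules} (hL : CohB1.IsAmple L) {j : ℕ} (hj : 0 < j) :
    Subsingleton (Coh.HH B.left L j) := by
  obtain ⟨h1, h2, h3⟩ := gp_facts (B := B)
  exact (subsingleton_gM_iff L hL.1 j).1 ((H25Index.ample_vanishing (gM L) (isAmple_pullback_of_isAffineHom (gp B) hL)).1 j hj)

/-- The sections of the powers of an ample module grow like the power of the dimension. -/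
theorem hd_pow {g : ℕ} (hg : topologicalKrullDim B.left = g) {L : B.left.Modules} (hL : CohB1.IsAmple L) {n : ℕ}
    (hn : 0 < n) : hd k (CohB1.tensorPow L n) 0 = n ^ g * hd k L 0 := by
  obtain ⟨h1, h2, h3⟩ := gp_facts (B := B)
  have hg' : topologicalKrullDim (gX B).left = g := by
    haveI : IsCommMonObj B := isCommMonObj_of_av
    exact dim_bc (Ω := Kbar k) B hg
  have hLK := isAmple_pullback_of_isAffineHom (gp B) hL
  obtain ⟨e⟩ := exists_iso_pullback_tensorPow (gp B) hL.1 n
  rw [← hd_gM L (isCoh_of_isInvertible hL.1) 0, ← hd_gM (CohB1.tensorPow L n) (isCoh_of_isInvertible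
    (isInvertible_tensorPow hL.1 n)) 0, H25Index.hd_congr e 0]
  haveI : IsCommMonObj B := isCommMonObj_of_av
  have hp := isAmple_pow hLK hn
  have key : ∀ {M : (gX B).left.Modules} (hM : CohB1.IsAmple M),
      chiCls (Kbar k) (pc M hM.1) = (hd (Kbar k) M 0 : ℤ) := fun {M} hM => by
    rw [chiCls_pc, euler_eq_of_concentrated M 0 fun j hj => (H25Index.ample_vanishing M hM).1 j (Nat.pos_of_ne_zero hj),
      pow_zero, _root_.one_mul]
  have h := key hp
  rw [pc_tensorPow _ hLK.1, chiCls_nsmul _ hg' hn, key hLK] at h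
  exact_mod_cast h.symm

theorem hd_structure : hd k (Coh.structureModule B.left) 0 = 1 := by
  obtain ⟨h1, h2, h3⟩ := gp_facts (B := B)
  haveI : IsIntegral (gX B).left := GeometricallyIntegral.isIntegral_of_subsingleton (gX B).hom
  haveI : IsProper ((gX B).left ↘ Spec (CommRingCat.of (Kbar k))) := h2
  rw [← hd_gM _ (isCoh_of_isInvertible isInvertible_structureModule) 0, H25Index.hd_congr (H25Theta.pO (gp B)) 0]
  exact H29RR.finrank_h0_structure (Kbar k) (gX B).left

/-- A basis of the sections. -/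
theorem exists_basis (M : B.left.Modules) (hM : PicF.IsInvertible M) {R : ℕ} (hR : hd k M 0 = R) :
    ∃ w : Fin R → Γ(M, ⊤), (∀ i, w i ≠ 0) ∧
      ∀ S : Γ(M, ⊤), ∃ c : Fin R → Γ(B.left, ⊤), S = ∑ i, c i • w i := by
  haveI : IsProper (B.left ↘ Spec (CommRingCat.of k)) := ‹IsProper B.hom›
  haveI := H10Coh.finite_HH_proper k B.left M (isCoh_of_isInvertible hM) 0
  let b := Module.finBasisOfFinrankEq k (Coh.HH B.left M 0) hR
  refine ⟨fun i => H10Coh.HH0Equiv M (b i), fun i h => b.ne_zero i
    ((H10Coh.HH0Equiv M).injective (h.trans (map_zero _).symm)), fun S => ?_⟩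
  refine ⟨fun i => Coh.toGlobal (B.left ↘ Spec (CommRingCat.of k)) (b.repr ((H10Coh.HH0Equiv M).symm S) i), ?_⟩
  conv_lhs => rw [← (H10Coh.HH0Equiv M).apply_symm_apply S, ← b.sum_repr ((H10Coh.HH0Equiv M).symm S), map_sum]
  refine Finset.sum_congr rfl fun i _ => ?_
  exact H10Coh.HH0Equiv_smul M _ _

theorem eq_A (L : B.left.Modules) (b : ℕ) : ∀ j, KosTwist.A L (CohB1.tensorPow L b) j = CohB1.tensorPow L (b + j)
  | 0 => rfl
  | j + 1 => by
    show CohB1.tensorMod (KosTwist.A L _ j) L = CohB1.tensorMod (CohB1.tensorPow L (b + j)) L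
    rw [eq_A L b j]

/-- High powers are spanned by the products of one degree less. -/
theorem exists_eq_sum {M : B.left.Modules} (hMa : CohB1.IsAmple M) {R : ℕ} (w : Fin R → Γ(M, ⊤))
    (hw : ∀ x, ∃ i, x ∈ gen M (w i)) {a : ℕ} (ha : R ≤ a) (y : Γ(CohB1.tensorPow M (a + 1), ⊤)) :
    ∃ s : Fin R → Γ(CohB1.tensorPow M a, ⊤), y = ∑ i, tm (s i) (w i) := by
  classical
  haveI : IsIntegral B.left := GeometricallyIntegral.isIntegral_of_subsingleton B.hom
  obtain ⟨i₀, -⟩ := hw (genericPoint B.left)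
  obtain ⟨r, rfl⟩ : ∃ r, R = r + 1 := ⟨R - 1, by have := i₀.2; omega⟩
  obtain ⟨b, rfl⟩ : ∃ b, a = b + r := ⟨a - r, by omega⟩
  let v : ℕ → Γ(M, ⊤) := fun j => if h : j < r + 1 then w ⟨j, h⟩ else 0
  let G := CohB1.tensorPow M b
  have key : ∀ (P Q : B.left.Modules) (_ : P = KosTwist.A M G r) (_ : Q = CohB1.tensorMod P M) (y : Γ(Q, ⊤))
      (hQ : Q = CohB1.tensorMod P M), ∃ s : Fin (r + 1) → Γ(P, ⊤), hQ ▸ y = ∑ i, tm (s i) (w i) := by
    rintro P Q rfl rfl y hQ
    obtain ⟨m, hm⟩ := exists_eq_sum_tm (L := M) (G := G) (v := v) hMa.1 (r := r)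
      (fun z => by
        obtain ⟨i, hi⟩ := hw z
        exact ⟨i.1, i.2, by simpa only [v, dif_pos i.2] using hi⟩)
      (fun j e hje => by
        rw [eq_A]
        exact subsingleton_HH_ample (isAmple_pow hMa (by omega)) (by omega)) y
    refine ⟨fun i => m i.1, hm.trans ?_⟩
    rw [Finset.sum_range]
    exact Finset.sum_congr rfl fun i _ => by simp only [v, dif_pos i.2]
  exact key _ _ (eq_A M b r).symm rfl y rfl

/-- The power of a generated ample module with as many factors as there are sections has spanning sections. -/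
theorem exists_spanning {g : ℕ} (hg : topologicalKrullDim B.left = g) {L : B.left.Modules} (hL : CohB1.IsAmple L)
    {R n : ℕ} (hR : hd k (CohB1.tensorMod L L) 0 = R) (hn : n + 1 = R ^ g * R) :
    ∃ (N : B.left.Modules) (v : Fin (n + 1) → Γ(N, ⊤)), CohB1.IsAmple N ∧ (∀ x, ∃ i, x ∈ gen N (v i)) ∧ v 0 ≠ 0 ∧
      Spanning (B.left ↘ Spec (CommRingCat.of k)) N v ∧
      ∀ m, hd k (CohB1.tensorPow N m) 0 = if m = 0 then 1 else m ^ g * (R ^ g * R) := by
  classical
  haveI : IsIntegral B.left := GeometricallyIntegral.isIntegral_of_subsingleton B.hom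
  haveI : IsLocallyNoetherian B.left := LocallyOfFiniteType.isLocallyNoetherian B.hom
  haveI : CompactSpace B.left := hL.2.1
  haveI : QuasiSeparatedSpace B.left := quasiSeparatedSpace_of_quasiSeparated B.hom
  let q := B.left ↘ Spec (CommRingCat.of k)
  let M := CohB1.tensorMod L L
  have hM : CohB1.IsAmple M := isAmple_square hL
  obtain ⟨w, hw0, hwspan⟩ := exists_basis M hM.1 hR
  have hwcov : ∀ x, ∃ i, x ∈ gen M (w i) := fun x => by
    obtain ⟨t, ht⟩ := exists_gen_sq hL x
    obtain ⟨c, hc⟩ := hwspan t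
    by_contra! hall
    obtain ⟨V, e, hxV, he⟩ := exists_gen hM.1 x
    choose a ha using fun i => exists_coeff he (M.presheaf.map (homOfLE (le_top : V ≤ ⊤)).op (w i))
    have ht' : M.presheaf.map (homOfLE (le_top : V ≤ ⊤)).op t =
        (∑ i, B.left.presheaf.map (homOfLE (le_top : V ≤ ⊤)).op (c i) * a i) • e := by
      rw [hc, map_sum, Finset.sum_smul]
      exact Finset.sum_congr rfl fun i _ => by rw [Scheme.Modules.map_smul, ha i, smul_smul]
    have h1 := (mem_gen_iff_mem_basicOpen he ht' hxV).1 ht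
    rw [Scheme.mem_basicOpen _ _ _ hxV, map_sum] at h1
    refine (IsLocalRing.mem_maximalIdeal _).1 (Ideal.sum_mem _ fun i _ => ?_) h1
    rw [map_mul]
    refine Ideal.mul_mem_left _ _ ((IsLocalRing.mem_maximalIdeal _).2 fun h2 => hall i ?_)
    exact (mem_gen_iff_mem_basicOpen he (ha i) hxV).2 ((Scheme.mem_basicOpen _ _ _ hxV).2 h2)
  have hR0 : 0 < R := (hwcov (genericPoint B.left)).choose.pos
  have hNa : CohB1.IsAmple (CohB1.tensorPow M R) := isAmple_pow hM hR0
  have hNd : hd k (CohB1.tensorPow M R) 0 = n + 1 := by rw [hd_pow hg hM hR0, hR, hn]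
  obtain ⟨v, hv0, hvspan⟩ := exists_basis _ hNa.1 hNd
  have hconst : Function.Surjective (Coh.toGlobal q) := fun f => by
    obtain ⟨y, hy⟩ := (H25Rig.bijective_appTop B.hom).2 f
    refine ⟨(Scheme.ΓSpecIso (CommRingCat.of k)).hom y, ?_⟩
    show q.appTop ((Scheme.ΓSpecIso (CommRingCat.of k)).inv ((Scheme.ΓSpecIso (CommRingCat.of k)).hom y)) = f
    rw [Iso.hom_inv_id_apply]
    exact hy
  obtain ⟨i₀, hi₀⟩ := hwcov (genericPoint B.left)
  let G := gen M (w i₀)
  let e : Γ(M, G) := M.presheaf.map (homOfLE le_top).op (w i₀)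
  have he : IsGen M e := isGen_gen (w i₀)
  let co : ∀ (b : ℕ) (S : Γ(CohB1.tensorPow M b, ⊤)), Γ(B.left, G) := fun b S =>
    (exists_coeff (isGen_spow he b) ((CohB1.tensorPow M b).presheaf.map (homOfLE (le_top : G ≤ ⊤)).op S)).choose
  have hco : ∀ b S, (CohB1.tensorPow M b).presheaf.map (homOfLE (le_top : G ≤ ⊤)).op S = co b S • spow e b :=
    fun b S =>
      (exists_coeff (isGen_spow he b) ((CohB1.tensorPow M b).presheaf.map (homOfLE (le_top : G ≤ ⊤)).op S)).choose_spec
  choose aw haw using fun i => exists_coeff he (M.presheaf.map (homOfLE (le_top : G ≤ ⊤)).op (w i))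
  have hlin : ∀ b (I : Type) [Fintype I] (S : I → Γ(CohB1.tensorPow M b, ⊤)) (c : I → Γ(B.left, ⊤)),
      co b (∑ i, c i • S i) = ∑ i, B.left.presheaf.map (homOfLE le_top).op (c i) * co b (S i) := by
    intro b I _ S c
    refine ((isGen_spow he b).bijective (W := G) le_rfl).1 ?_
    beta_reduce
    rw [H10Coh.mres_self, ← hco, map_sum, Finset.sum_smul]
    exact Finset.sum_congr rfl fun i _ => by rw [Scheme.Modules.map_smul, hco, smul_smul]
  have htm : ∀ b (S : Γ(CohB1.tensorPow M b, ⊤)) (i : Fin R), co (b + 1) (tm S (w i)) = co b S * aw i := by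
    intro b S i
    refine ((isGen_spow he (b + 1)).bijective (W := G) le_rfl).1 ?_
    beta_reduce
    rw [H10Coh.mres_self, ← hco]
    refine (tm_res _ _ _).trans ?_
    rw [hco, haw, tm_smul_left, tm_smul_right, smul_smul]
    rfl
  -- every power is a combination of products with the sections of the `R`-th power
  have hprod : ∀ j (S : Γ(CohB1.tensorPow M (R + j), ⊤)), ∃ s : Fin (n + 1) → Γ(CohB1.tensorPow M j, ⊤),
      co (R + j) S = ∑ l, co j (s l) * co R (v l) := by
    intro j
    induction j with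
    | zero =>
      intro S
      obtain ⟨c, hc⟩ := hvspan S
      refine ⟨fun l => (show Γ(B.left, ⊤) from c l), ?_⟩
      have h0 : ∀ f : Γ(B.left, ⊤), co 0 f = B.left.presheaf.map (homOfLE le_top).op f := fun f => by
        refine ((isGen_spow he 0).bijective (W := G) le_rfl).1 ?_
        beta_reduce
        rw [H10Coh.mres_self, ← hco]
        exact (_root_.mul_one (B.left.presheaf.map (homOfLE (le_top : G ≤ ⊤)).op f)).symm
      simp only [h0]
      exact (congrArg (co R) hc).trans (hlin R _ v c)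
    | succ j ih =>
      intro S
      obtain ⟨s, rfl⟩ := exists_eq_sum hM w hwcov (a := R + j) (Nat.le_add_right R j) S
      choose t ht using fun i => ih (s i)
      refine ⟨fun l => ∑ i, tm (t i l) (w i), ?_⟩
      have h1 := hlin (R + j + 1) (Fin R) (fun i => tm (s i) (w i)) fun _ => 1
      have h2 := fun l => hlin (j + 1) (Fin R) (fun i => tm (t i l) (w i)) fun _ => 1
      simp only [one_smul, map_one, _root_.one_mul] at h1 h2
      rw [show co (R + (j + 1)) (∑ i, tm (s i) (w i)) = _ from h1]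
      simp only [h2, htm, ht, Finset.sum_mul]
      rw [Finset.sum_comm]
      exact Finset.sum_congr rfl fun l _ => Finset.sum_congr rfl fun i _ => by ring
  choose φ hφ using fun m => exists_iso_mul (L := M) hM.1 R m
  let eN : Γ(CohB1.tensorPow M R, G) := spow e R
  have hNco : ∀ m (T : Γ(CohB1.tensorPow (CohB1.tensorPow M R) m, ⊤)),
      (CohB1.tensorPow (CohB1.tensorPow M R) m).presheaf.map (homOfLE (le_top : G ≤ ⊤)).op T =
        co (R * m) ((φ m).hom.app ⊤ T) • spow eN m := by
    intro m T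
    refine (ConcreteCategory.bijective_of_isIso ((φ m).hom.app G)).1 ?_
    rw [Scheme.Modules.Hom.app_smul, hφ, ← hco, app_map_apply]
  refine ⟨CohB1.tensorPow M R, v, hNa, fun x => ?_, hv0 0, ⟨hconst, fun m T => ?_⟩, fun m => ?_⟩
  · obtain ⟨i, hi⟩ := hwcov x
    obtain ⟨c, hc⟩ := hvspan (spow (w i) R)
    by_contra! hall
    obtain ⟨V, e', hxV, he'⟩ := exists_gen hNa.1 x
    choose a' ha' using fun l => exists_coeff he'
      ((CohB1.tensorPow M R).presheaf.map (homOfLE (le_top : V ≤ ⊤)).op (v l))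
    have ht' : (CohB1.tensorPow M R).presheaf.map (homOfLE (le_top : V ≤ ⊤)).op (spow (w i) R) =
        (∑ l, B.left.presheaf.map (homOfLE (le_top : V ≤ ⊤)).op (c l) * a' l) • e' := by
      rw [hc, map_sum, Finset.sum_smul]
      exact Finset.sum_congr rfl fun l _ => by rw [Scheme.Modules.map_smul, ha' l, smul_smul]
    have h1 := (mem_gen_iff_mem_basicOpen he' ht' hxV).1 ((gen_spow hM.1 (w i) R hR0).ge hi)
    rw [Scheme.mem_basicOpen _ _ _ hxV, map_sum] at h1
    refine (IsLocalRing.mem_maximalIdeal _).1 (Ideal.sum_mem _ fun l _ => ?_) h1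
    rw [map_mul]
    refine Ideal.mul_mem_left _ _ ((IsLocalRing.mem_maximalIdeal _).2 fun h2 => hall l ?_)
    exact (mem_gen_iff_mem_basicOpen he' (ha' l) hxV).2 ((Scheme.mem_basicOpen _ _ _ hxV).2 h2)
  · let Y := (φ (m + 1)).hom.app ⊤ T
    obtain ⟨s, hs⟩ : ∃ s : Fin (n + 1) → Γ(CohB1.tensorPow M (R * m), ⊤),
        co (R * (m + 1)) Y = ∑ l, co (R * m) (s l) * co R (v l) := by
      have h : ∀ b (_ : R + R * m = b) (Z : Γ(CohB1.tensorPow M b, ⊤)),
          ∃ s : Fin (n + 1) → Γ(CohB1.tensorPow M (R * m), ⊤), co b Z = ∑ l, co (R * m) (s l) * co R (v l) := by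
        rintro b rfl Z
        exact hprod (R * m) Z
      exact h (R * (m + 1)) (by ring) Y
    refine ⟨fun l => (φ m).inv.app ⊤ (s l), ?_⟩
    have hinv : ∀ l, (φ m).hom.app ⊤ ((φ m).inv.app ⊤ (s l)) = s l := fun l =>
      congr($(congrArg (fun f => Scheme.Modules.Hom.app f ⊤) (φ m).inv_hom_id) (s l))
    have hNm := isInvertible_tensorPow hNa.1 (m + 1)
    let Ssum : Γ(CohB1.tensorPow (CohB1.tensorPow M R) (m + 1), ⊤) := (∑ l, tm ((φ m).inv.app ⊤ (s l)) (v l) :)
    show T = Ssum
    by_contra hne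
    have hd' := sub_ne_zero.2 hne
    have h2 := ((mem_gen_iff hNm _ _).1 (H29RR.genericPoint_mem_gen hNm hd')).1
    have h0 : (CohB1.tensorPow (CohB1.tensorPow M R) (m + 1)).presheaf.map (homOfLE (le_top : G ≤ ⊤)).op
        (T - Ssum) = 0 := by
      rw [map_sub, hNco, map_sum, sub_eq_zero, show co (R * (m + 1)) _ = _ from hs, Finset.sum_smul]
      refine Finset.sum_congr rfl fun l _ => ?_
      refine Eq.trans ?_ (tm_res _ _ _).symm
      rw [hNco, hinv, hco R, tm_smul_left, tm_smul_right, smul_smul]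
      rfl
    rw [← TopCat.Presheaf.germ_res_apply _ (homOfLE (le_top : G ≤ ⊤)) _ hi₀, h0, map_zero] at h2
    exact one_ne_zero (h2 (a₁ := 1) (a₂ := 0) (by simp))
  · split_ifs with h
    · subst h
      haveI : IsProper q := ‹IsProper B.hom›
      haveI : GeometricallyIntegral q := ‹GeometricallyIntegral B.hom›
      exact hd_structure
    · rw [hd_pow hg hNa (Nat.pos_of_ne_zero h), hNd, hn]

/-- Over a finite field there are finitely many abelian varieties of given dimension with an ample module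
whose square has a given number of sections. -/
theorem finite_isAmple (k : Type u) [Field k] [Finite k] (g R : ℕ) :
    ∃ (n : ℕ) (Bs : Fin n → Over (Spec (CommRingCat.of k))),
      ∀ (B : Over (Spec (CommRingCat.of k))) [GrpObj B] [IsProper B.hom] [GeometricallyIntegral B.hom]
        (L : B.left.Modules), topologicalKrullDim B.left = g → CohB1.IsAmple L →
          hd k (CohB1.tensorMod L L) 0 = R → ∃ i : Fin n, Nonempty (B ≅ Bs i) := by
  classical
  let N := R ^ g * R - 1
  let S := {I : Ideal (MvPolynomial (Fin N) k) | ∀ m,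
    Module.finrank k ((MvPolynomial.restrictTotalDegree (Fin N) k m).map (Ideal.Quotient.mkₐ k I).toLinearMap) =
      if m = 0 then 1 else m ^ g * (R ^ g * R)}
  have hS : S.Finite := finite_ideals _
  haveI := hS.fintype
  let P (I : Ideal (MvPolynomial (Fin N) k)) (X : Over (Spec (CommRingCat.of k))) : Prop :=
    ∃ (_ : IsIntegral X.left) (_ : CompactSpace X.left) (r : X.left ⟶ CohB1.ProjSpace N k),
      IsClosedImmersion r ∧ r ≫ CohB1.ProjSpace.toSpec N k = X.hom ∧ IsModel r I
  let rep : Ideal (MvPolynomial (Fin N) k) → Over (Spec (CommRingCat.of k)) := fun I =>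
    if h : ∃ X, P I X then h.choose else 𝟙_ _
  refine ⟨Fintype.card S, fun i => rep ((Fintype.equivFin S).symm i).1, fun B _ _ _ L hg hL hR => ?_⟩
  haveI : IsIntegral B.left := GeometricallyIntegral.isIntegral_of_subsingleton B.hom
  haveI : CompactSpace B.left := hL.2.1
  haveI : IsProper (B.left ↘ Spec (CommRingCat.of k)) := ‹IsProper B.hom›
  obtain ⟨hR0⟩ : Nonempty (0 < R) := by
    obtain ⟨t, ht⟩ := exists_gen_sq hL (genericPoint B.left)
    haveI := H10Coh.finite_HH_proper k B.left _ (isCoh_of_isInvertible (isInvertible_tensor hL.1 hL.1)) 0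
    haveI : Nontrivial (Coh.HH B.left (CohB1.tensorMod L L) 0) := by
      refine ⟨⟨(H10Coh.HH0Equiv _).symm t, 0, fun h => ?_⟩⟩
      rw [AddEquiv.symm_apply_eq, map_zero] at h
      subst h
      have h2 := ((mem_gen_iff (isInvertible_tensor hL.1 hL.1) _ _).1 ht).1 (a₁ := 1) (a₂ := 0) (by simp)
      exact one_ne_zero h2
    exact ⟨hR ▸ Module.finrank_pos⟩
  have hn : N + 1 = R ^ g * R := Nat.succ_pred_eq_of_pos (Nat.mul_pos (Nat.pow_pos hR0) hR0)
  obtain ⟨M, v, hMa, hcov, hv0, hspan, hh⟩ := exists_spanning hg hL hR hn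
  obtain ⟨r, I, hr, hrq, hI, hdim⟩ := exists_model hMa hcov hv0 hspan
  have hIS : I ∈ S := fun m => (hdim m).trans (hh m)
  refine ⟨Fintype.equivFin S ⟨I, hIS⟩, ?_⟩
  beta_reduce
  rw [Equiv.symm_apply_apply]
  have hex : ∃ X, P I X := ⟨B, inferInstance, inferInstance, r, hr, hrq, hI⟩
  simp only [rep, dif_pos hex]
  obtain ⟨_, _, r', hr', hrq', hI'⟩ := hex.choose_spec
  haveI := hr
  haveI := hr'
  obtain ⟨e, he⟩ := iso_of_isModel r r' I hI hI'
  exact ⟨Over.isoMk e (by rw [← hrq', ← Category.assoc, he]; exact hrq)⟩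

end Groth.Agent.H25Bdd
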